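import Cfsg.Agent.E82.Mach.Main

/-!
# The pressure machine for `Sp₄(4)`: the simple modules of dimension 128 (helper79)
-/

set_option autoImplicit false
set_option maxRecDepth 100000

namespace Cfsg.Agent.E82.M44

open Cfsg.Agent.E82.Mach

/-- a letter -/
def G7_0 : List (ℕ × ℕ) :=
  [(0, 8), (0, 56), (1, 9), (1, 57), (2, 4), (2, 10), (2, 12), (2, 58), (2, 60), (3, 5), (3, 11), (3, 13), (3, 59),
  (3, 61), (4, 12), (4, 60), (5, 13), (5, 61), (6, 14), (6, 62), (7, 15), (7, 63), (10, 12), (11, 13), (16, 56), (17,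
  57), (18, 20), (18, 58), (18, 60), (19, 21), (19, 59), (19, 61), (20, 60), (21, 61), (22, 62), (23, 63), (24, 64),
  (25, 65), (26, 28), (26, 66), (26, 68), (27, 29), (27, 67), (27, 69), (28, 68), (29, 69), (30, 70), (31, 71), (32,
  72), (33, 73), (34, 36), (34, 74), (34, 76), (35, 37), (35, 75), (35, 77), (36, 76), (37, 77), (38, 78), (39, 79),
  (40, 24), (40, 64), (40, 80), (41, 25), (41, 65), (41, 81), (42, 26), (42, 28), (42, 44), (42, 66), (42, 68), (42,
  82), (42, 84), (43, 27), (43, 29), (43, 45), (43, 67), (43, 69), (43, 83), (43, 85), (44, 28), (44, 68), (44, 84),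
  (45, 29), (45, 69), (45, 85), (46, 30), (46, 70), (46, 86), (47, 31), (47, 71), (47, 87), (48, 32), (48, 72), (48,
  88), (49, 33), (49, 73), (49, 89), (50, 34), (50, 36), (50, 52), (50, 74), (50, 76), (50, 90), (50, 92), (51, 35),
  (51, 37), (51, 53), (51, 75), (51, 77), (51, 91), (51, 93), (52, 36), (52, 76), (52, 92), (53, 37), (53, 77), (53,
  93), (54, 38), (54, 78), (54, 94), (55, 39), (55, 79), (55, 95), (58, 60), (59, 61), (66, 68), (67, 69), (74, 76),
  (75, 77), (80, 64), (81, 65), (82, 66), (82, 68), (82, 84), (83, 67), (83, 69), (83, 85), (84, 68), (85, 69), (86,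
  70), (87, 71), (88, 72), (89, 73), (90, 74), (90, 76), (90, 92), (91, 75), (91, 77), (91, 93), (92, 76), (93, 77),
  (94, 78), (95, 79), (98, 100), (99, 101), (106, 108), (107, 109), (112, 96), (113, 97), (114, 98), (114, 100),
  (114, 116), (115, 99), (115, 101), (115, 117), (116, 100), (117, 101), (118, 102), (119, 103), (120, 96), (120,
  104), (121, 97), (121, 105), (122, 98), (122, 100), (122, 106), (122, 108), (122, 124), (123, 99), (123, 101),
  (123, 107), (123, 109), (123, 125), (124, 100), (124, 108), (125, 101), (125, 109), (126, 102), (126, 110), (127,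
  103), (127, 111)]

/-- a letter -/
def G7_1 : List (ℕ × ℕ) :=
  [(0, 8), (0, 16), (0, 56), (1, 9), (1, 17), (1, 57), (2, 4), (2, 5), (2, 10), (2, 12), (2, 13), (2, 18), (2, 20),
  (2, 21), (2, 58), (2, 60), (2, 61), (3, 4), (3, 11), (3, 12), (3, 19), (3, 20), (3, 59), (3, 60), (4, 12), (4, 20),
  (4, 60), (5, 13), (5, 21), (5, 61), (6, 14), (6, 22), (6, 62), (7, 15), (7, 23), (7, 63), (8, 56), (9, 57), (10,
  12), (10, 13), (10, 58), (10, 60), (10, 61), (11, 12), (11, 59), (11, 60), (12, 60), (13, 61), (14, 62), (15, 63),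
  (16, 56), (17, 57), (18, 20), (18, 21), (18, 58), (18, 60), (18, 61), (19, 20), (19, 59), (19, 60), (20, 60), (21,
  61), (22, 62), (23, 63), (24, 72), (25, 73), (26, 28), (26, 29), (26, 74), (26, 76), (26, 77), (27, 28), (27, 75),
  (27, 76), (28, 76), (29, 77), (30, 78), (31, 79), (32, 64), (32, 72), (33, 65), (33, 73), (34, 36), (34, 37), (34,
  66), (34, 68), (34, 69), (34, 74), (34, 76), (34, 77), (35, 36), (35, 67), (35, 68), (35, 75), (35, 76), (36, 68),
  (36, 76), (37, 69), (37, 77), (38, 70), (38, 78), (39, 71), (39, 79), (40, 24), (40, 32), (40, 64), (40, 88), (41,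
  25), (41, 33), (41, 65), (41, 89), (42, 26), (42, 28), (42, 29), (42, 34), (42, 36), (42, 37), (42, 44), (42, 45),
  (42, 66), (42, 68), (42, 69), (42, 90), (42, 92), (42, 93), (43, 27), (43, 28), (43, 35), (43, 36), (43, 44), (43,
  67), (43, 68), (43, 91), (43, 92), (44, 28), (44, 36), (44, 68), (44, 92), (45, 29), (45, 37), (45, 69), (45, 93),
  (46, 30), (46, 38), (46, 70), (46, 94), (47, 31), (47, 39), (47, 71), (47, 95), (48, 24), (48, 72), (48, 80), (48,
  88), (49, 25), (49, 73), (49, 81), (49, 89), (50, 26), (50, 28), (50, 29), (50, 52), (50, 53), (50, 74), (50, 76),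
  (50, 77), (50, 82), (50, 84), (50, 85), (50, 90), (50, 92), (50, 93), (51, 27), (51, 28), (51, 52), (51, 75), (51,
  76), (51, 83), (51, 84), (51, 91), (51, 92), (52, 28), (52, 76), (52, 84), (52, 92), (53, 29), (53, 77), (53, 85),
  (53, 93), (54, 30), (54, 78), (54, 86), (54, 94), (55, 31), (55, 79), (55, 87), (55, 95), (58, 60), (58, 61), (59,
  60), (66, 68), (66, 69), (67, 68), (74, 76), (74, 77), (75, 76), (80, 64), (80, 72), (81, 65), (81, 73), (82, 66),
  (82, 68), (82, 69), (82, 74), (82, 76), (82, 77), (82, 84), (82, 85), (83, 67), (83, 68), (83, 75), (83, 76), (83,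
  84), (84, 68), (84, 76), (85, 69), (85, 77), (86, 70), (86, 78), (87, 71), (87, 79), (88, 64), (89, 65), (90, 66),
  (90, 68), (90, 69), (90, 92), (90, 93), (91, 67), (91, 68), (91, 92), (92, 68), (93, 69), (94, 70), (95, 71), (98,
  100), (98, 101), (99, 100), (104, 96), (105, 97), (106, 98), (106, 100), (106, 101), (106, 108), (106, 109), (107,
  99), (107, 100), (107, 108), (108, 100), (109, 101), (110, 102), (111, 103), (114, 116), (114, 117), (115, 116),
  (120, 96), (120, 112), (121, 97), (121, 113), (122, 98), (122, 100), (122, 101), (122, 114), (122, 116), (122,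
  117), (122, 124), (122, 125), (123, 99), (123, 100), (123, 115), (123, 116), (123, 124), (124, 100), (124, 116),
  (125, 101), (125, 117), (126, 102), (126, 118), (127, 103), (127, 119)]

/-- a letter -/
def G7_2 : List (ℕ × ℕ) :=
  [(0, 2), (1, 3), (4, 6), (5, 7), (8, 10), (8, 40), (8, 42), (9, 11), (9, 41), (9, 43), (10, 42), (11, 43), (12,
  14), (12, 44), (12, 46), (13, 15), (13, 45), (13, 47), (14, 46), (15, 47), (16, 18), (16, 48), (16, 50), (17, 19),
  (17, 49), (17, 51), (18, 50), (19, 51), (20, 22), (20, 52), (20, 54), (21, 23), (21, 53), (21, 55), (22, 54), (23,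
  55), (24, 26), (25, 27), (28, 30), (29, 31), (32, 34), (33, 35), (36, 38), (37, 39), (40, 42), (41, 43), (44, 46),
  (45, 47), (48, 50), (49, 51), (52, 54), (53, 55), (56, 58), (56, 80), (56, 82), (56, 120), (56, 122), (57, 59),
  (57, 81), (57, 83), (57, 121), (57, 123), (58, 82), (58, 122), (59, 83), (59, 123), (60, 62), (60, 84), (60, 86),
  (60, 124), (60, 126), (61, 63), (61, 85), (61, 87), (61, 125), (61, 127), (62, 86), (62, 126), (63, 87), (63, 127),
  (64, 66), (64, 104), (64, 106), (65, 67), (65, 105), (65, 107), (66, 106), (67, 107), (68, 70), (68, 108), (68,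
  110), (69, 71), (69, 109), (69, 111), (70, 110), (71, 111), (72, 74), (72, 104), (72, 106), (72, 112), (72, 114),
  (73, 75), (73, 105), (73, 107), (73, 113), (73, 115), (74, 106), (74, 114), (75, 107), (75, 115), (76, 78), (76,
  108), (76, 110), (76, 116), (76, 118), (77, 79), (77, 109), (77, 111), (77, 117), (77, 119), (78, 110), (78, 118),
  (79, 111), (79, 119), (80, 82), (81, 83), (84, 86), (85, 87), (88, 90), (88, 120), (88, 122), (89, 91), (89, 121),
  (89, 123), (90, 122), (91, 123), (92, 94), (92, 124), (92, 126), (93, 95), (93, 125), (93, 127), (94, 126), (95,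
  127), (96, 98), (97, 99), (100, 102), (101, 103), (104, 106), (105, 107), (108, 110), (109, 111), (112, 114), (113,
  115), (116, 118), (117, 119), (120, 122), (121, 123), (124, 126), (125, 127)]

/-- a letter -/
def G7_3 : List (ℕ × ℕ) :=
  [(0, 3), (1, 2), (1, 3), (4, 7), (5, 6), (5, 7), (8, 11), (8, 40), (8, 43), (8, 48), (8, 51), (9, 10), (9, 11), (9,
  41), (9, 42), (9, 43), (9, 49), (9, 50), (9, 51), (10, 42), (10, 50), (11, 43), (11, 51), (12, 15), (12, 44), (12,
  47), (12, 52), (12, 55), (13, 14), (13, 15), (13, 45), (13, 46), (13, 47), (13, 53), (13, 54), (13, 55), (14, 46),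
  (14, 54), (15, 47), (15, 55), (16, 19), (16, 40), (16, 43), (17, 18), (17, 19), (17, 41), (17, 42), (17, 43), (18,
  42), (19, 43), (20, 23), (20, 44), (20, 47), (21, 22), (21, 23), (21, 45), (21, 46), (21, 47), (22, 46), (23, 47),
  (24, 27), (25, 26), (25, 27), (28, 31), (29, 30), (29, 31), (32, 35), (33, 34), (33, 35), (36, 39), (37, 38), (37,
  39), (40, 43), (41, 42), (41, 43), (44, 47), (45, 46), (45, 47), (48, 51), (49, 50), (49, 51), (52, 55), (53, 54),
  (53, 55), (56, 59), (56, 80), (56, 83), (56, 88), (56, 91), (56, 120), (56, 123), (57, 58), (57, 59), (57, 81),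
  (57, 82), (57, 83), (57, 89), (57, 90), (57, 91), (57, 121), (57, 122), (57, 123), (58, 82), (58, 90), (58, 122),
  (59, 83), (59, 91), (59, 123), (60, 63), (60, 84), (60, 87), (60, 92), (60, 95), (60, 124), (60, 127), (61, 62),
  (61, 63), (61, 85), (61, 86), (61, 87), (61, 93), (61, 94), (61, 95), (61, 125), (61, 126), (61, 127), (62, 86),
  (62, 94), (62, 126), (63, 87), (63, 95), (63, 127), (64, 67), (64, 104), (64, 107), (64, 112), (64, 115), (65, 66),
  (65, 67), (65, 105), (65, 106), (65, 107), (65, 113), (65, 114), (65, 115), (66, 106), (66, 114), (67, 107), (67,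
  115), (68, 71), (68, 108), (68, 111), (68, 116), (68, 119), (69, 70), (69, 71), (69, 109), (69, 110), (69, 111),
  (69, 117), (69, 118), (69, 119), (70, 110), (70, 118), (71, 111), (71, 119), (72, 75), (72, 112), (72, 115), (73,
  74), (73, 75), (73, 113), (73, 114), (73, 115), (74, 114), (75, 115), (76, 79), (76, 116), (76, 119), (77, 78),
  (77, 79), (77, 117), (77, 118), (77, 119), (78, 118), (79, 119), (80, 83), (80, 120), (80, 123), (81, 82), (81,
  83), (81, 121), (81, 122), (81, 123), (82, 122), (83, 123), (84, 87), (84, 124), (84, 127), (85, 86), (85, 87),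
  (85, 125), (85, 126), (85, 127), (86, 126), (87, 127), (88, 91), (88, 120), (88, 123), (89, 90), (89, 91), (89,
  121), (89, 122), (89, 123), (90, 122), (91, 123), (92, 95), (92, 124), (92, 127), (93, 94), (93, 95), (93, 125),
  (93, 126), (93, 127), (94, 126), (95, 127), (96, 99), (97, 98), (97, 99), (100, 103), (101, 102), (101, 103), (104,
  107), (105, 106), (105, 107), (108, 111), (109, 110), (109, 111), (112, 115), (113, 114), (113, 115), (116, 119),
  (117, 118), (117, 119), (120, 123), (121, 122), (121, 123), (124, 127), (125, 126), (125, 127)]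

/-- a letter -/
def G7_4 : List (ℕ × ℕ) :=
  [(0, 6), (0, 40), (0, 46), (0, 120), (0, 126), (1, 7), (1, 41), (1, 47), (1, 121), (1, 127), (2, 42), (2, 122), (3,
  43), (3, 123), (4, 44), (4, 124), (5, 45), (5, 125), (6, 46), (6, 126), (7, 47), (7, 127), (8, 14), (8, 24), (8,
  30), (8, 80), (8, 86), (8, 104), (8, 110), (9, 15), (9, 25), (9, 31), (9, 81), (9, 87), (9, 105), (9, 111), (10,
  26), (10, 82), (10, 106), (11, 27), (11, 83), (11, 107), (12, 28), (12, 84), (12, 108), (13, 29), (13, 85), (13,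
  109), (14, 30), (14, 86), (14, 110), (15, 31), (15, 87), (15, 111), (16, 22), (16, 32), (16, 38), (16, 80), (16,
  86), (16, 88), (16, 94), (16, 104), (16, 110), (16, 112), (16, 118), (17, 23), (17, 33), (17, 39), (17, 81), (17,
  87), (17, 89), (17, 95), (17, 105), (17, 111), (17, 113), (17, 119), (18, 34), (18, 82), (18, 90), (18, 106), (18,
  114), (19, 35), (19, 83), (19, 91), (19, 107), (19, 115), (20, 36), (20, 84), (20, 92), (20, 108), (20, 116), (21,
  37), (21, 85), (21, 93), (21, 109), (21, 117), (22, 38), (22, 86), (22, 94), (22, 110), (22, 118), (23, 39), (23,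
  87), (23, 95), (23, 111), (23, 119), (24, 30), (24, 104), (24, 110), (25, 31), (25, 105), (25, 111), (26, 106),
  (27, 107), (28, 108), (29, 109), (30, 110), (31, 111), (32, 38), (32, 104), (32, 110), (32, 112), (32, 118), (33,
  39), (33, 105), (33, 111), (33, 113), (33, 119), (34, 106), (34, 114), (35, 107), (35, 115), (36, 108), (36, 116),
  (37, 109), (37, 117), (38, 110), (38, 118), (39, 111), (39, 119), (40, 46), (41, 47), (48, 54), (48, 120), (48,
  126), (49, 55), (49, 121), (49, 127), (50, 122), (51, 123), (52, 124), (53, 125), (54, 126), (55, 127), (56, 62),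
  (56, 64), (56, 70), (56, 96), (56, 102), (57, 63), (57, 65), (57, 71), (57, 97), (57, 103), (58, 66), (58, 98),
  (59, 67), (59, 99), (60, 68), (60, 100), (61, 69), (61, 101), (62, 70), (62, 102), (63, 71), (63, 103), (64, 70),
  (65, 71), (72, 78), (72, 96), (72, 102), (73, 79), (73, 97), (73, 103), (74, 98), (75, 99), (76, 100), (77, 101),
  (78, 102), (79, 103), (80, 86), (80, 104), (80, 110), (81, 87), (81, 105), (81, 111), (82, 106), (83, 107), (84,
  108), (85, 109), (86, 110), (87, 111), (88, 94), (88, 112), (88, 118), (89, 95), (89, 113), (89, 119), (90, 114),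
  (91, 115), (92, 116), (93, 117), (94, 118), (95, 119), (96, 102), (97, 103), (104, 110), (105, 111), (112, 118),
  (113, 119), (120, 126), (121, 127)]

/-- a letter -/
def G7_5 : List (ℕ × ℕ) :=
  [(0, 6), (0, 7), (0, 40), (0, 46), (0, 47), (0, 48), (0, 54), (0, 55), (0, 120), (0, 126), (0, 127), (1, 6), (1,
  41), (1, 46), (1, 49), (1, 54), (1, 121), (1, 126), (2, 42), (2, 50), (2, 122), (3, 43), (3, 51), (3, 123), (4,
  44), (4, 52), (4, 124), (5, 45), (5, 53), (5, 125), (6, 46), (6, 54), (6, 126), (7, 47), (7, 55), (7, 127), (8,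
  14), (8, 15), (8, 24), (8, 30), (8, 31), (8, 32), (8, 38), (8, 39), (8, 80), (8, 86), (8, 87), (8, 88), (8, 94),
  (8, 95), (8, 104), (8, 110), (8, 111), (9, 14), (9, 25), (9, 30), (9, 33), (9, 38), (9, 81), (9, 86), (9, 89), (9,
  94), (9, 105), (9, 110), (10, 26), (10, 34), (10, 82), (10, 90), (10, 106), (11, 27), (11, 35), (11, 83), (11, 91),
  (11, 107), (12, 28), (12, 36), (12, 84), (12, 92), (12, 108), (13, 29), (13, 37), (13, 85), (13, 93), (13, 109),
  (14, 30), (14, 38), (14, 86), (14, 94), (14, 110), (15, 31), (15, 39), (15, 87), (15, 95), (15, 111), (16, 22),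
  (16, 23), (16, 24), (16, 30), (16, 31), (16, 88), (16, 94), (16, 95), (16, 104), (16, 110), (16, 111), (16, 112),
  (16, 118), (16, 119), (17, 22), (17, 25), (17, 30), (17, 89), (17, 94), (17, 105), (17, 110), (17, 113), (17, 118),
  (18, 26), (18, 90), (18, 106), (18, 114), (19, 27), (19, 91), (19, 107), (19, 115), (20, 28), (20, 92), (20, 108),
  (20, 116), (21, 29), (21, 93), (21, 109), (21, 117), (22, 30), (22, 94), (22, 110), (22, 118), (23, 31), (23, 95),
  (23, 111), (23, 119), (24, 30), (24, 31), (24, 104), (24, 110), (24, 111), (24, 112), (24, 118), (24, 119), (25,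
  30), (25, 105), (25, 110), (25, 113), (25, 118), (26, 106), (26, 114), (27, 107), (27, 115), (28, 108), (28, 116),
  (29, 109), (29, 117), (30, 110), (30, 118), (31, 111), (31, 119), (32, 38), (32, 39), (32, 112), (32, 118), (32,
  119), (33, 38), (33, 113), (33, 118), (34, 114), (35, 115), (36, 116), (37, 117), (38, 118), (39, 119), (40, 46),
  (40, 47), (40, 120), (40, 126), (40, 127), (41, 46), (41, 121), (41, 126), (42, 122), (43, 123), (44, 124), (45,
  125), (46, 126), (47, 127), (48, 54), (48, 55), (48, 120), (48, 126), (48, 127), (49, 54), (49, 121), (49, 126),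
  (50, 122), (51, 123), (52, 124), (53, 125), (54, 126), (55, 127), (56, 62), (56, 63), (56, 64), (56, 70), (56, 71),
  (56, 72), (56, 78), (56, 79), (56, 96), (56, 102), (56, 103), (57, 62), (57, 65), (57, 70), (57, 73), (57, 78),
  (57, 97), (57, 102), (58, 66), (58, 74), (58, 98), (59, 67), (59, 75), (59, 99), (60, 68), (60, 76), (60, 100),
  (61, 69), (61, 77), (61, 101), (62, 70), (62, 78), (62, 102), (63, 71), (63, 79), (63, 103), (64, 70), (64, 71),
  (64, 96), (64, 102), (64, 103), (65, 70), (65, 97), (65, 102), (66, 98), (67, 99), (68, 100), (69, 101), (70, 102),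
  (71, 103), (72, 78), (72, 79), (72, 96), (72, 102), (72, 103), (73, 78), (73, 97), (73, 102), (74, 98), (75, 99),
  (76, 100), (77, 101), (78, 102), (79, 103), (80, 86), (80, 87), (80, 112), (80, 118), (80, 119), (81, 86), (81,
  113), (81, 118), (82, 114), (83, 115), (84, 116), (85, 117), (86, 118), (87, 119), (88, 94), (88, 95), (88, 104),
  (88, 110), (88, 111), (88, 112), (88, 118), (88, 119), (89, 94), (89, 105), (89, 110), (89, 113), (89, 118), (90,
  106), (90, 114), (91, 107), (91, 115), (92, 108), (92, 116), (93, 109), (93, 117), (94, 110), (94, 118), (95, 111),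
  (95, 119), (96, 102), (96, 103), (97, 102), (104, 110), (104, 111), (105, 110), (112, 118), (112, 119), (113, 118),
  (120, 126), (120, 127), (121, 126)]

/-- a letter -/
def G7_6 : List (ℕ × ℕ) :=
  [(0, 4), (0, 24), (0, 28), (0, 96), (0, 100), (1, 5), (1, 25), (1, 29), (1, 97), (1, 101), (2, 6), (2, 26), (2,
  30), (2, 98), (2, 102), (3, 7), (3, 27), (3, 31), (3, 99), (3, 103), (4, 28), (4, 100), (5, 29), (5, 101), (6, 30),
  (6, 102), (7, 31), (7, 103), (8, 12), (8, 64), (8, 68), (9, 13), (9, 65), (9, 69), (10, 14), (10, 66), (10, 70),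
  (11, 15), (11, 67), (11, 71), (12, 68), (13, 69), (14, 70), (15, 71), (16, 20), (16, 64), (16, 68), (16, 72), (16,
  76), (17, 21), (17, 65), (17, 69), (17, 73), (17, 77), (18, 22), (18, 66), (18, 70), (18, 74), (18, 78), (19, 23),
  (19, 67), (19, 71), (19, 75), (19, 79), (20, 68), (20, 76), (21, 69), (21, 77), (22, 70), (22, 78), (23, 71), (23,
  79), (24, 28), (25, 29), (26, 30), (27, 31), (32, 36), (32, 96), (32, 100), (33, 37), (33, 97), (33, 101), (34,
  38), (34, 98), (34, 102), (35, 39), (35, 99), (35, 103), (36, 100), (37, 101), (38, 102), (39, 103), (40, 44), (40,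
  104), (40, 108), (41, 45), (41, 105), (41, 109), (42, 46), (42, 106), (42, 110), (43, 47), (43, 107), (43, 111),
  (44, 108), (45, 109), (46, 110), (47, 111), (48, 52), (48, 112), (48, 116), (49, 53), (49, 113), (49, 117), (50,
  54), (50, 114), (50, 118), (51, 55), (51, 115), (51, 119), (52, 116), (53, 117), (54, 118), (55, 119), (56, 60),
  (57, 61), (58, 62), (59, 63), (64, 68), (65, 69), (66, 70), (67, 71), (72, 76), (73, 77), (74, 78), (75, 79), (80,
  84), (81, 85), (82, 86), (83, 87), (88, 92), (89, 93), (90, 94), (91, 95), (96, 100), (97, 101), (98, 102), (99,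
  103), (104, 108), (105, 109), (106, 110), (107, 111), (112, 116), (113, 117), (114, 118), (115, 119), (120, 124),
  (121, 125), (122, 126), (123, 127)]

/-- a letter -/
def G7_7 : List (ℕ × ℕ) :=
  [(0, 5), (0, 24), (0, 29), (0, 32), (0, 37), (0, 96), (0, 101), (1, 4), (1, 5), (1, 25), (1, 28), (1, 29), (1, 33),
  (1, 36), (1, 37), (1, 97), (1, 100), (1, 101), (2, 7), (2, 26), (2, 31), (2, 34), (2, 39), (2, 98), (2, 103), (3,
  6), (3, 7), (3, 27), (3, 30), (3, 31), (3, 35), (3, 38), (3, 39), (3, 99), (3, 102), (3, 103), (4, 28), (4, 36),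
  (4, 100), (5, 29), (5, 37), (5, 101), (6, 30), (6, 38), (6, 102), (7, 31), (7, 39), (7, 103), (8, 13), (8, 64), (8,
  69), (8, 72), (8, 77), (9, 12), (9, 13), (9, 65), (9, 68), (9, 69), (9, 73), (9, 76), (9, 77), (10, 15), (10, 66),
  (10, 71), (10, 74), (10, 79), (11, 14), (11, 15), (11, 67), (11, 70), (11, 71), (11, 75), (11, 78), (11, 79), (12,
  68), (12, 76), (13, 69), (13, 77), (14, 70), (14, 78), (15, 71), (15, 79), (16, 21), (16, 72), (16, 77), (17, 20),
  (17, 21), (17, 73), (17, 76), (17, 77), (18, 23), (18, 74), (18, 79), (19, 22), (19, 23), (19, 75), (19, 78), (19,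
  79), (20, 76), (21, 77), (22, 78), (23, 79), (24, 29), (24, 96), (24, 101), (25, 28), (25, 29), (25, 97), (25,
  100), (25, 101), (26, 31), (26, 98), (26, 103), (27, 30), (27, 31), (27, 99), (27, 102), (27, 103), (28, 100), (29,
  101), (30, 102), (31, 103), (32, 37), (32, 96), (32, 101), (33, 36), (33, 37), (33, 97), (33, 100), (33, 101), (34,
  39), (34, 98), (34, 103), (35, 38), (35, 39), (35, 99), (35, 102), (35, 103), (36, 100), (37, 101), (38, 102), (39,
  103), (40, 45), (40, 112), (40, 117), (41, 44), (41, 45), (41, 113), (41, 116), (41, 117), (42, 47), (42, 114),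
  (42, 119), (43, 46), (43, 47), (43, 115), (43, 118), (43, 119), (44, 116), (45, 117), (46, 118), (47, 119), (48,
  53), (48, 104), (48, 109), (48, 112), (48, 117), (49, 52), (49, 53), (49, 105), (49, 108), (49, 109), (49, 113),
  (49, 116), (49, 117), (50, 55), (50, 106), (50, 111), (50, 114), (50, 119), (51, 54), (51, 55), (51, 107), (51,
  110), (51, 111), (51, 115), (51, 118), (51, 119), (52, 108), (52, 116), (53, 109), (53, 117), (54, 110), (54, 118),
  (55, 111), (55, 119), (56, 61), (57, 60), (57, 61), (58, 63), (59, 62), (59, 63), (64, 69), (65, 68), (65, 69),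
  (66, 71), (67, 70), (67, 71), (72, 77), (73, 76), (73, 77), (74, 79), (75, 78), (75, 79), (80, 85), (81, 84), (81,
  85), (82, 87), (83, 86), (83, 87), (88, 93), (89, 92), (89, 93), (90, 95), (91, 94), (91, 95), (96, 101), (97,
  100), (97, 101), (98, 103), (99, 102), (99, 103), (104, 109), (105, 108), (105, 109), (106, 111), (107, 110), (107,
  111), (112, 117), (113, 116), (113, 117), (114, 119), (115, 118), (115, 119), (120, 125), (121, 124), (121, 125),
  (122, 127), (123, 126), (123, 127)]

/-- a letter -/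
def G7_8 : List (ℕ × ℕ) :=
  [(4, 2), (5, 3), (12, 10), (13, 11), (16, 0), (17, 1), (18, 2), (19, 3), (20, 2), (20, 4), (20, 18), (21, 3), (21,
  5), (21, 19), (22, 6), (23, 7), (24, 40), (25, 41), (26, 42), (27, 43), (28, 26), (28, 42), (28, 44), (29, 27),
  (29, 43), (29, 45), (30, 46), (31, 47), (32, 48), (33, 49), (34, 50), (35, 51), (36, 34), (36, 50), (36, 52), (37,
  35), (37, 51), (37, 53), (38, 54), (39, 55), (44, 42), (45, 43), (52, 50), (53, 51), (56, 0), (56, 8), (57, 1),
  (57, 9), (58, 2), (58, 10), (59, 3), (59, 11), (60, 2), (60, 4), (60, 10), (60, 12), (60, 58), (61, 3), (61, 5),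
  (61, 11), (61, 13), (61, 59), (62, 6), (62, 14), (63, 7), (63, 15), (64, 24), (64, 40), (64, 80), (65, 25), (65,
  41), (65, 81), (66, 26), (66, 42), (66, 82), (67, 27), (67, 43), (67, 83), (68, 26), (68, 28), (68, 42), (68, 44),
  (68, 66), (68, 82), (68, 84), (69, 27), (69, 29), (69, 43), (69, 45), (69, 67), (69, 83), (69, 85), (70, 30), (70,
  46), (70, 86), (71, 31), (71, 47), (71, 87), (72, 32), (72, 48), (72, 88), (73, 33), (73, 49), (73, 89), (74, 34),
  (74, 50), (74, 90), (75, 35), (75, 51), (75, 91), (76, 34), (76, 36), (76, 50), (76, 52), (76, 74), (76, 90), (76,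
  92), (77, 35), (77, 37), (77, 51), (77, 53), (77, 75), (77, 91), (77, 93), (78, 38), (78, 54), (78, 94), (79, 39),
  (79, 55), (79, 95), (80, 40), (81, 41), (82, 42), (83, 43), (84, 42), (84, 44), (84, 82), (85, 43), (85, 45), (85,
  83), (86, 46), (87, 47), (88, 48), (89, 49), (90, 50), (91, 51), (92, 50), (92, 52), (92, 90), (93, 51), (93, 53),
  (93, 91), (94, 54), (95, 55), (96, 104), (96, 120), (97, 105), (97, 121), (98, 106), (98, 122), (99, 107), (99,
  123), (100, 98), (100, 106), (100, 108), (100, 122), (100, 124), (101, 99), (101, 107), (101, 109), (101, 123),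
  (101, 125), (102, 110), (102, 126), (103, 111), (103, 127), (108, 106), (109, 107), (112, 120), (113, 121), (114,
  122), (115, 123), (116, 114), (116, 122), (116, 124), (117, 115), (117, 123), (117, 125), (118, 126), (119, 127),
  (124, 122), (125, 123)]

/-- a letter -/
def G7_9 : List (ℕ × ℕ) :=
  [(4, 2), (4, 3), (5, 2), (8, 0), (9, 1), (10, 2), (11, 3), (12, 2), (12, 3), (12, 4), (12, 10), (12, 11), (13, 2),
  (13, 5), (13, 10), (14, 6), (15, 7), (20, 18), (20, 19), (21, 18), (24, 40), (24, 48), (25, 41), (25, 49), (26,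
  42), (26, 50), (27, 43), (27, 51), (28, 26), (28, 27), (28, 42), (28, 43), (28, 44), (28, 50), (28, 51), (28, 52),
  (29, 26), (29, 42), (29, 45), (29, 50), (29, 53), (30, 46), (30, 54), (31, 47), (31, 55), (32, 40), (33, 41), (34,
  42), (35, 43), (36, 34), (36, 35), (36, 42), (36, 43), (36, 44), (37, 34), (37, 42), (37, 45), (38, 46), (39, 47),
  (44, 42), (44, 43), (45, 42), (52, 50), (52, 51), (53, 50), (56, 0), (56, 16), (57, 1), (57, 17), (58, 2), (58,
  18), (59, 3), (59, 19), (60, 2), (60, 3), (60, 4), (60, 18), (60, 19), (60, 20), (60, 58), (60, 59), (61, 2), (61,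
  5), (61, 18), (61, 21), (61, 58), (62, 6), (62, 22), (63, 7), (63, 23), (64, 32), (64, 40), (64, 80), (64, 88),
  (65, 33), (65, 41), (65, 81), (65, 89), (66, 34), (66, 42), (66, 82), (66, 90), (67, 35), (67, 43), (67, 83), (67,
  91), (68, 34), (68, 35), (68, 36), (68, 42), (68, 43), (68, 44), (68, 66), (68, 67), (68, 82), (68, 83), (68, 84),
  (68, 90), (68, 91), (68, 92), (69, 34), (69, 37), (69, 42), (69, 45), (69, 66), (69, 82), (69, 85), (69, 90), (69,
  93), (70, 38), (70, 46), (70, 86), (70, 94), (71, 39), (71, 47), (71, 87), (71, 95), (72, 24), (72, 32), (72, 48),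
  (72, 80), (73, 25), (73, 33), (73, 49), (73, 81), (74, 26), (74, 34), (74, 50), (74, 82), (75, 27), (75, 35), (75,
  51), (75, 83), (76, 26), (76, 27), (76, 28), (76, 34), (76, 35), (76, 36), (76, 50), (76, 51), (76, 52), (76, 74),
  (76, 75), (76, 82), (76, 83), (76, 84), (77, 26), (77, 29), (77, 34), (77, 37), (77, 50), (77, 53), (77, 74), (77,
  82), (77, 85), (78, 30), (78, 38), (78, 54), (78, 86), (79, 31), (79, 39), (79, 55), (79, 87), (80, 48), (81, 49),
  (82, 50), (83, 51), (84, 50), (84, 51), (84, 52), (84, 82), (84, 83), (85, 50), (85, 53), (85, 82), (86, 54), (87,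
  55), (88, 40), (88, 48), (89, 41), (89, 49), (90, 42), (90, 50), (91, 43), (91, 51), (92, 42), (92, 43), (92, 44),
  (92, 50), (92, 51), (92, 52), (92, 90), (92, 91), (93, 42), (93, 45), (93, 50), (93, 53), (93, 90), (94, 46), (94,
  54), (95, 47), (95, 55), (96, 104), (96, 112), (96, 120), (97, 105), (97, 113), (97, 121), (98, 106), (98, 114),
  (98, 122), (99, 107), (99, 115), (99, 123), (100, 98), (100, 99), (100, 106), (100, 107), (100, 108), (100, 114),
  (100, 115), (100, 116), (100, 122), (100, 123), (100, 124), (101, 98), (101, 106), (101, 109), (101, 114), (101,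
  117), (101, 122), (101, 125), (102, 110), (102, 118), (102, 126), (103, 111), (103, 119), (103, 127), (104, 120),
  (105, 121), (106, 122), (107, 123), (108, 106), (108, 107), (108, 122), (108, 123), (108, 124), (109, 106), (109,
  122), (109, 125), (110, 126), (111, 127), (112, 120), (113, 121), (114, 122), (115, 123), (116, 114), (116, 115),
  (116, 122), (116, 123), (116, 124), (117, 114), (117, 122), (117, 125), (118, 126), (119, 127), (124, 122), (124,
  123), (125, 122)]

/-- a letter -/
def G7_10 : List (ℕ × ℕ) :=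
  [(2, 0), (3, 1), (6, 4), (7, 5), (10, 8), (11, 9), (14, 12), (15, 13), (18, 16), (19, 17), (22, 20), (23, 21), (26,
  24), (27, 25), (30, 28), (31, 29), (34, 32), (35, 33), (38, 36), (39, 37), (40, 8), (41, 9), (42, 8), (42, 10),
  (42, 40), (43, 9), (43, 11), (43, 41), (44, 12), (45, 13), (46, 12), (46, 14), (46, 44), (47, 13), (47, 15), (47,
  45), (48, 16), (49, 17), (50, 16), (50, 18), (50, 48), (51, 17), (51, 19), (51, 49), (52, 20), (53, 21), (54, 20),
  (54, 22), (54, 52), (55, 21), (55, 23), (55, 53), (58, 56), (59, 57), (62, 60), (63, 61), (66, 64), (67, 65), (70,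
  68), (71, 69), (74, 72), (75, 73), (78, 76), (79, 77), (82, 80), (83, 81), (86, 84), (87, 85), (88, 56), (89, 57),
  (90, 56), (90, 58), (90, 88), (91, 57), (91, 59), (91, 89), (92, 60), (93, 61), (94, 60), (94, 62), (94, 92), (95,
  61), (95, 63), (95, 93), (98, 96), (99, 97), (102, 100), (103, 101), (104, 64), (105, 65), (106, 64), (106, 66),
  (106, 104), (107, 65), (107, 67), (107, 105), (108, 68), (109, 69), (110, 68), (110, 70), (110, 108), (111, 69),
  (111, 71), (111, 109), (112, 64), (112, 72), (113, 65), (113, 73), (114, 64), (114, 66), (114, 72), (114, 74),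
  (114, 112), (115, 65), (115, 67), (115, 73), (115, 75), (115, 113), (116, 68), (116, 76), (117, 69), (117, 77),
  (118, 68), (118, 70), (118, 76), (118, 78), (118, 116), (119, 69), (119, 71), (119, 77), (119, 79), (119, 117),
  (120, 56), (120, 80), (121, 57), (121, 81), (122, 56), (122, 58), (122, 80), (122, 82), (122, 120), (123, 57),
  (123, 59), (123, 81), (123, 83), (123, 121), (124, 60), (124, 84), (125, 61), (125, 85), (126, 60), (126, 62),
  (126, 84), (126, 86), (126, 124), (127, 61), (127, 63), (127, 85), (127, 87), (127, 125)]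

/-- a letter -/
def G7_11 : List (ℕ × ℕ) :=
  [(2, 1), (3, 0), (3, 1), (6, 5), (7, 4), (7, 5), (10, 9), (11, 8), (11, 9), (14, 13), (15, 12), (15, 13), (18, 17),
  (19, 16), (19, 17), (22, 21), (23, 20), (23, 21), (26, 25), (27, 24), (27, 25), (30, 29), (31, 28), (31, 29), (34,
  33), (35, 32), (35, 33), (38, 37), (39, 36), (39, 37), (40, 8), (40, 16), (41, 9), (41, 17), (42, 9), (42, 10),
  (42, 17), (42, 18), (42, 41), (43, 8), (43, 9), (43, 11), (43, 16), (43, 17), (43, 19), (43, 40), (43, 41), (44,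
  12), (44, 20), (45, 13), (45, 21), (46, 13), (46, 14), (46, 21), (46, 22), (46, 45), (47, 12), (47, 13), (47, 15),
  (47, 20), (47, 21), (47, 23), (47, 44), (47, 45), (48, 8), (49, 9), (50, 9), (50, 10), (50, 49), (51, 8), (51, 9),
  (51, 11), (51, 48), (51, 49), (52, 12), (53, 13), (54, 13), (54, 14), (54, 53), (55, 12), (55, 13), (55, 15), (55,
  52), (55, 53), (58, 57), (59, 56), (59, 57), (62, 61), (63, 60), (63, 61), (66, 65), (67, 64), (67, 65), (70, 69),
  (71, 68), (71, 69), (74, 73), (75, 72), (75, 73), (78, 77), (79, 76), (79, 77), (80, 56), (81, 57), (82, 57), (82,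
  58), (82, 81), (83, 56), (83, 57), (83, 59), (83, 80), (83, 81), (84, 60), (85, 61), (86, 61), (86, 62), (86, 85),
  (87, 60), (87, 61), (87, 63), (87, 84), (87, 85), (90, 89), (91, 88), (91, 89), (94, 93), (95, 92), (95, 93), (98,
  97), (99, 96), (99, 97), (102, 101), (103, 100), (103, 101), (104, 72), (105, 73), (106, 73), (106, 74), (106,
  105), (107, 72), (107, 73), (107, 75), (107, 104), (107, 105), (108, 76), (109, 77), (110, 77), (110, 78), (110,
  109), (111, 76), (111, 77), (111, 79), (111, 108), (111, 109), (112, 64), (113, 65), (114, 65), (114, 66), (114,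
  113), (115, 64), (115, 65), (115, 67), (115, 112), (115, 113), (116, 68), (117, 69), (118, 69), (118, 70), (118,
  117), (119, 68), (119, 69), (119, 71), (119, 116), (119, 117), (120, 56), (120, 88), (121, 57), (121, 89), (122,
  57), (122, 58), (122, 89), (122, 90), (122, 121), (123, 56), (123, 57), (123, 59), (123, 88), (123, 89), (123, 91),
  (123, 120), (123, 121), (124, 60), (124, 92), (125, 61), (125, 93), (126, 61), (126, 62), (126, 93), (126, 94),
  (126, 125), (127, 60), (127, 61), (127, 63), (127, 92), (127, 93), (127, 95), (127, 124), (127, 125)]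

/-- a letter -/
def G7_12 : List (ℕ × ℕ) :=
  [(2, 3), (3, 2), (3, 3), (4, 4), (4, 5), (5, 4), (8, 16), (9, 17), (10, 11), (10, 18), (10, 19), (11, 10), (11,
  11), (11, 18), (12, 12), (12, 13), (12, 21), (13, 12), (13, 20), (13, 21), (14, 22), (15, 23), (16, 8), (16, 16),
  (17, 9), (17, 17), (18, 10), (18, 11), (18, 18), (19, 10), (19, 19), (20, 13), (20, 20), (21, 12), (21, 13), (21,
  21), (22, 14), (22, 22), (23, 15), (23, 23), (24, 32), (25, 33), (26, 27), (26, 34), (26, 35), (27, 26), (27, 27),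
  (27, 34), (28, 28), (28, 29), (28, 37), (29, 28), (29, 36), (29, 37), (30, 38), (31, 39), (32, 24), (32, 32), (33,
  25), (33, 33), (34, 26), (34, 27), (34, 34), (35, 26), (35, 35), (36, 29), (36, 36), (37, 28), (37, 29), (37, 37),
  (38, 30), (38, 38), (39, 31), (39, 39), (42, 43), (43, 42), (43, 43), (44, 44), (44, 45), (45, 44), (50, 51), (51,
  50), (51, 51), (52, 52), (52, 53), (53, 52), (58, 59), (59, 58), (59, 59), (60, 60), (60, 61), (61, 60), (66, 67),
  (67, 66), (67, 67), (68, 68), (68, 69), (69, 68), (74, 75), (75, 74), (75, 75), (76, 76), (76, 77), (77, 76), (80,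
  80), (80, 88), (81, 81), (81, 89), (82, 82), (82, 90), (82, 91), (83, 83), (83, 90), (84, 84), (84, 93), (85, 85),
  (85, 92), (85, 93), (86, 86), (86, 94), (87, 87), (87, 95), (88, 80), (89, 81), (90, 82), (90, 83), (90, 91), (91,
  82), (91, 90), (91, 91), (92, 85), (92, 92), (92, 93), (93, 84), (93, 85), (93, 92), (94, 86), (95, 87), (98, 99),
  (99, 98), (99, 99), (100, 100), (100, 101), (101, 100), (104, 104), (104, 112), (105, 105), (105, 113), (106, 106),
  (106, 114), (106, 115), (107, 107), (107, 114), (108, 108), (108, 117), (109, 109), (109, 116), (109, 117), (110,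
  110), (110, 118), (111, 111), (111, 119), (112, 104), (113, 105), (114, 106), (114, 107), (114, 115), (115, 106),
  (115, 114), (115, 115), (116, 109), (116, 116), (116, 117), (117, 108), (117, 109), (117, 116), (118, 110), (119,
  111), (122, 123), (123, 122), (123, 123), (124, 124), (124, 125), (125, 124)]

/-- a letter -/
def G7_13 : List (ℕ × ℕ) :=
  [(0, 0), (0, 1), (1, 0), (2, 3), (3, 2), (3, 3), (4, 4), (4, 5), (5, 4), (6, 7), (7, 6), (7, 7), (8, 8), (8, 9),
  (8, 17), (9, 8), (9, 16), (9, 17), (10, 11), (10, 18), (10, 19), (11, 10), (11, 11), (11, 18), (12, 12), (12, 13),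
  (12, 21), (13, 12), (13, 20), (13, 21), (14, 15), (14, 22), (14, 23), (15, 14), (15, 15), (15, 22), (16, 9), (16,
  16), (17, 8), (17, 9), (17, 17), (18, 10), (18, 11), (18, 18), (19, 10), (19, 19), (20, 13), (20, 20), (21, 12),
  (21, 13), (21, 21), (22, 14), (22, 15), (22, 22), (23, 14), (23, 23), (24, 24), (24, 25), (25, 24), (26, 27), (27,
  26), (27, 27), (28, 28), (28, 29), (29, 28), (30, 31), (31, 30), (31, 31), (32, 32), (32, 33), (33, 32), (34, 35),
  (35, 34), (35, 35), (36, 36), (36, 37), (37, 36), (38, 39), (39, 38), (39, 39), (40, 40), (40, 49), (41, 41), (41,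
  48), (41, 49), (42, 42), (42, 50), (42, 51), (43, 43), (43, 50), (44, 44), (44, 53), (45, 45), (45, 52), (45, 53),
  (46, 46), (46, 54), (46, 55), (47, 47), (47, 54), (48, 41), (48, 48), (48, 49), (49, 40), (49, 41), (49, 48), (50,
  42), (50, 43), (50, 51), (51, 42), (51, 50), (51, 51), (52, 45), (52, 52), (52, 53), (53, 44), (53, 45), (53, 52),
  (54, 46), (54, 47), (54, 55), (55, 46), (55, 54), (55, 55), (56, 56), (56, 57), (57, 56), (58, 59), (59, 58), (59,
  59), (60, 60), (60, 61), (61, 60), (62, 63), (63, 62), (63, 63), (64, 64), (64, 73), (65, 65), (65, 72), (65, 73),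
  (66, 66), (66, 74), (66, 75), (67, 67), (67, 74), (68, 68), (68, 77), (69, 69), (69, 76), (69, 77), (70, 70), (70,
  78), (70, 79), (71, 71), (71, 78), (72, 65), (72, 72), (72, 73), (73, 64), (73, 65), (73, 72), (74, 66), (74, 67),
  (74, 75), (75, 66), (75, 74), (75, 75), (76, 69), (76, 76), (76, 77), (77, 68), (77, 69), (77, 76), (78, 70), (78,
  71), (78, 79), (79, 70), (79, 78), (79, 79), (80, 80), (80, 81), (80, 89), (81, 80), (81, 88), (81, 89), (82, 83),
  (82, 90), (82, 91), (83, 82), (83, 83), (83, 90), (84, 84), (84, 85), (84, 93), (85, 84), (85, 92), (85, 93), (86,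
  87), (86, 94), (86, 95), (87, 86), (87, 87), (87, 94), (88, 81), (88, 88), (89, 80), (89, 81), (89, 89), (90, 82),
  (90, 83), (90, 90), (91, 82), (91, 91), (92, 85), (92, 92), (93, 84), (93, 85), (93, 93), (94, 86), (94, 87), (94,
  94), (95, 86), (95, 95), (96, 96), (96, 97), (97, 96), (98, 99), (99, 98), (99, 99), (100, 100), (100, 101), (101,
  100), (102, 103), (103, 102), (103, 103), (104, 104), (104, 113), (105, 105), (105, 112), (105, 113), (106, 106),
  (106, 114), (106, 115), (107, 107), (107, 114), (108, 108), (108, 117), (109, 109), (109, 116), (109, 117), (110,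
  110), (110, 118), (110, 119), (111, 111), (111, 118), (112, 105), (112, 112), (112, 113), (113, 104), (113, 105),
  (113, 112), (114, 106), (114, 107), (114, 115), (115, 106), (115, 114), (115, 115), (116, 109), (116, 116), (116,
  117), (117, 108), (117, 109), (117, 116), (118, 110), (118, 111), (118, 119), (119, 110), (119, 118), (119, 119),
  (120, 120), (120, 121), (121, 120), (122, 123), (123, 122), (123, 123), (124, 124), (124, 125), (125, 124), (126,
  127), (127, 126), (127, 127)]

/-- the simple module `128a` -/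
def G7 : List (List (ℕ × ℕ)) :=
  [G7_0, G7_1, G7_2, G7_3, G7_4, G7_5, G7_6, G7_7, G7_8, G7_9, G7_10, G7_11, G7_12, G7_13]

/-- a tree of words -/
def p7 : List (ℕ × ℕ) :=
  [(0, 2), (0, 6), (0, 0), (0, 4), (0, 3), (0, 7), (0, 1), (0, 13), (0, 5), (1, 6), (1, 0), (1, 4), (1, 7), (1, 1),
  (1, 5), (2, 0), (2, 8), (2, 4), (2, 3), (2, 7), (2, 1), (2, 9), (2, 13), (2, 5), (3, 2), (3, 8), (3, 4), (3, 3),
  (3, 7), (3, 13), (3, 5), (4, 10), (4, 11), (4, 3), (4, 7), (4, 1), (4, 13), (4, 5), (5, 0), (5, 7), (5, 1), (5, 5),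
  (6, 8), (6, 1), (6, 9), (6, 13), (6, 5), (7, 2), (7, 3), (7, 13), (7, 5), (8, 0), (8, 4), (8, 5), (9, 10), (9, 11),
  (10, 0), (10, 7), (10, 1), (10, 9), (11, 8), (11, 4), (11, 3), (11, 7), (11, 1), (11, 5), (12, 11), (12, 7), (12,
  1), (12, 13), (12, 5), (13, 12), (13, 8), (13, 1), (13, 9), (14, 12), (14, 3), (14, 5), (15, 11), (16, 8), (16, 3),
  (16, 7), (16, 9), (16, 13), (16, 5), (17, 12), (17, 11), (17, 3), (17, 7), (17, 1), (17, 9), (17, 13), (17, 5),
  (18, 11), (18, 7), (18, 1), (19, 0), (19, 1), (20, 8), (20, 1), (20, 9), (20, 13), (21, 2), (21, 12), (21, 8), (21,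
  3), (21, 9), (21, 13), (21, 5), (22, 10), (22, 0), (22, 11), (22, 1), (22, 13), (24, 10), (24, 11), (25, 12), (25,
  8), (25, 11), (25, 7), (25, 1), (25, 13), (25, 5), (26, 4), (26, 3), (27, 11), (27, 3)]

/-- a tree of words -/
def q7 : List (ℕ × ℕ) :=
  [(0, 10), (0, 8), (0, 11), (0, 9), (0, 13), (1, 8), (1, 9), (2, 10), (2, 0), (2, 11), (2, 13), (3, 8), (3, 9), (4,
  10), (4, 11), (4, 13), (5, 8), (6, 10), (6, 0), (6, 11), (6, 9), (7, 10), (7, 12), (7, 11), (8, 2), (8, 12), (8,
  0), (8, 8), (8, 11), (8, 3), (8, 9), (8, 13), (9, 11), (10, 2), (10, 8), (10, 3), (10, 9), (10, 13), (12, 10), (12,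
  0), (12, 11), (13, 10), (13, 11), (14, 2), (14, 12), (14, 8), (14, 9), (15, 2), (15, 8), (15, 9), (18, 2), (18,
  12), (18, 0), (18, 8), (18, 11), (18, 3), (18, 9), (19, 11), (20, 2), (20, 8), (20, 9), (20, 5), (21, 10), (22, 2),
  (22, 12), (22, 0), (22, 8), (22, 9), (24, 2), (24, 8), (24, 9), (25, 8), (25, 9), (26, 8), (26, 9), (27, 8), (27,
  9), (28, 6), (28, 0), (28, 11), (28, 3), (28, 7), (28, 9), (28, 13), (29, 8), (29, 9), (30, 9), (31, 6), (31, 12),
  (31, 0), (31, 11), (31, 7), (31, 1), (31, 13), (32, 8), (33, 8), (33, 9), (34, 8), (35, 0), (35, 11), (35, 3), (35,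
  13), (36, 9), (37, 6), (37, 10), (37, 12), (37, 0), (37, 11), (37, 13), (39, 9), (41, 9), (42, 8), (42, 9), (43,
  9), (46, 0), (46, 11), (47, 12), (47, 0), (49, 10), (49, 0), (49, 9), (51, 8), (51, 9), (52, 8), (52, 9), (53, 8),
  (53, 9)]

/-- a letter -/
def G8_0 : List (ℕ × ℕ) :=
  [(0, 2), (1, 3), (6, 4), (7, 5), (8, 10), (8, 24), (8, 26), (9, 11), (9, 25), (9, 27), (10, 26), (11, 27), (12,
  28), (13, 29), (14, 12), (14, 28), (14, 30), (15, 13), (15, 29), (15, 31), (16, 18), (16, 32), (16, 34), (17, 19),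
  (17, 33), (17, 35), (18, 34), (19, 35), (20, 36), (21, 37), (22, 20), (22, 36), (22, 38), (23, 21), (23, 37), (23,
  39), (24, 26), (25, 27), (30, 28), (31, 29), (32, 34), (33, 35), (38, 36), (39, 37), (40, 42), (41, 43), (46, 44),
  (47, 45), (48, 50), (49, 51), (54, 52), (55, 53), (56, 58), (56, 64), (56, 66), (56, 96), (56, 98), (57, 59), (57,
  65), (57, 67), (57, 97), (57, 99), (58, 66), (58, 98), (59, 67), (59, 99), (60, 68), (60, 100), (61, 69), (61,
  101), (62, 60), (62, 68), (62, 70), (62, 100), (62, 102), (63, 61), (63, 69), (63, 71), (63, 101), (63, 103), (64,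
  66), (65, 67), (70, 68), (71, 69), (72, 74), (72, 96), (72, 98), (73, 75), (73, 97), (73, 99), (74, 98), (75, 99),
  (76, 100), (77, 101), (78, 76), (78, 100), (78, 102), (79, 77), (79, 101), (79, 103), (80, 82), (80, 104), (80,
  106), (81, 83), (81, 105), (81, 107), (82, 106), (83, 107), (84, 108), (85, 109), (86, 84), (86, 108), (86, 110),
  (87, 85), (87, 109), (87, 111), (88, 90), (88, 112), (88, 114), (89, 91), (89, 113), (89, 115), (90, 114), (91,
  115), (92, 116), (93, 117), (94, 92), (94, 116), (94, 118), (95, 93), (95, 117), (95, 119), (96, 98), (97, 99),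
  (102, 100), (103, 101), (104, 106), (105, 107), (110, 108), (111, 109), (112, 114), (113, 115), (118, 116), (119,
  117), (120, 122), (121, 123), (126, 124), (127, 125)]

/-- a letter -/
def G8_1 : List (ℕ × ℕ) :=
  [(0, 3), (1, 2), (1, 3), (6, 5), (7, 4), (7, 5), (8, 11), (8, 32), (8, 35), (9, 10), (9, 11), (9, 33), (9, 34), (9,
  35), (10, 34), (11, 35), (12, 36), (13, 37), (14, 13), (14, 37), (14, 38), (15, 12), (15, 13), (15, 36), (15, 37),
  (15, 39), (16, 19), (16, 24), (16, 27), (16, 32), (16, 35), (17, 18), (17, 19), (17, 25), (17, 26), (17, 27), (17,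
  33), (17, 34), (17, 35), (18, 26), (18, 34), (19, 27), (19, 35), (20, 28), (20, 36), (21, 29), (21, 37), (22, 21),
  (22, 29), (22, 30), (22, 37), (22, 38), (23, 20), (23, 21), (23, 28), (23, 29), (23, 31), (23, 36), (23, 37), (23,
  39), (24, 27), (25, 26), (25, 27), (30, 29), (31, 28), (31, 29), (32, 35), (33, 34), (33, 35), (38, 37), (39, 36),
  (39, 37), (40, 43), (41, 42), (41, 43), (46, 45), (47, 44), (47, 45), (48, 51), (49, 50), (49, 51), (54, 53), (55,
  52), (55, 53), (56, 59), (56, 72), (56, 75), (56, 96), (56, 99), (57, 58), (57, 59), (57, 73), (57, 74), (57, 75),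
  (57, 97), (57, 98), (57, 99), (58, 74), (58, 98), (59, 75), (59, 99), (60, 76), (60, 100), (61, 77), (61, 101),
  (62, 61), (62, 77), (62, 78), (62, 101), (62, 102), (63, 60), (63, 61), (63, 76), (63, 77), (63, 79), (63, 100),
  (63, 101), (63, 103), (64, 67), (64, 96), (64, 99), (65, 66), (65, 67), (65, 97), (65, 98), (65, 99), (66, 98),
  (67, 99), (68, 100), (69, 101), (70, 69), (70, 101), (70, 102), (71, 68), (71, 69), (71, 100), (71, 101), (71,
  103), (72, 75), (73, 74), (73, 75), (78, 77), (79, 76), (79, 77), (80, 83), (80, 104), (80, 107), (80, 112), (80,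
  115), (81, 82), (81, 83), (81, 105), (81, 106), (81, 107), (81, 113), (81, 114), (81, 115), (82, 106), (82, 114),
  (83, 107), (83, 115), (84, 108), (84, 116), (85, 109), (85, 117), (86, 85), (86, 109), (86, 110), (86, 117), (86,
  118), (87, 84), (87, 85), (87, 108), (87, 109), (87, 111), (87, 116), (87, 117), (87, 119), (88, 91), (88, 104),
  (88, 107), (89, 90), (89, 91), (89, 105), (89, 106), (89, 107), (90, 106), (91, 107), (92, 108), (93, 109), (94,
  93), (94, 109), (94, 110), (95, 92), (95, 93), (95, 108), (95, 109), (95, 111), (96, 99), (97, 98), (97, 99), (102,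
  101), (103, 100), (103, 101), (104, 107), (105, 106), (105, 107), (110, 109), (111, 108), (111, 109), (112, 115),
  (113, 114), (113, 115), (118, 117), (119, 116), (119, 117), (120, 123), (121, 122), (121, 123), (126, 125), (127,
  124), (127, 125)]

/-- a letter -/
def G8_2 : List (ℕ × ℕ) :=
  [(0, 8), (0, 56), (1, 9), (1, 57), (2, 6), (2, 10), (2, 14), (2, 58), (2, 62), (3, 7), (3, 11), (3, 15), (3, 59),
  (3, 63), (4, 12), (4, 60), (5, 13), (5, 61), (6, 14), (6, 62), (7, 15), (7, 63), (10, 14), (11, 15), (16, 56), (17,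
  57), (18, 22), (18, 58), (18, 62), (19, 23), (19, 59), (19, 63), (20, 60), (21, 61), (22, 62), (23, 63), (24, 40),
  (24, 64), (24, 80), (25, 41), (25, 65), (25, 81), (26, 30), (26, 42), (26, 46), (26, 66), (26, 70), (26, 82), (26,
  86), (27, 31), (27, 43), (27, 47), (27, 67), (27, 71), (27, 83), (27, 87), (28, 44), (28, 68), (28, 84), (29, 45),
  (29, 69), (29, 85), (30, 46), (30, 70), (30, 86), (31, 47), (31, 71), (31, 87), (32, 48), (32, 72), (32, 88), (33,
  49), (33, 73), (33, 89), (34, 38), (34, 50), (34, 54), (34, 74), (34, 78), (34, 90), (34, 94), (35, 39), (35, 51),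
  (35, 55), (35, 75), (35, 79), (35, 91), (35, 95), (36, 52), (36, 76), (36, 92), (37, 53), (37, 77), (37, 93), (38,
  54), (38, 78), (38, 94), (39, 55), (39, 79), (39, 95), (40, 80), (41, 81), (42, 46), (42, 82), (42, 86), (43, 47),
  (43, 83), (43, 87), (44, 84), (45, 85), (46, 86), (47, 87), (48, 88), (49, 89), (50, 54), (50, 90), (50, 94), (51,
  55), (51, 91), (51, 95), (52, 92), (53, 93), (54, 94), (55, 95), (58, 62), (59, 63), (64, 80), (65, 81), (66, 70),
  (66, 82), (66, 86), (67, 71), (67, 83), (67, 87), (68, 84), (69, 85), (70, 86), (71, 87), (72, 88), (73, 89), (74,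
  78), (74, 90), (74, 94), (75, 79), (75, 91), (75, 95), (76, 92), (77, 93), (78, 94), (79, 95), (82, 86), (83, 87),
  (90, 94), (91, 95), (96, 104), (96, 120), (97, 105), (97, 121), (98, 102), (98, 106), (98, 110), (98, 122), (98,
  126), (99, 103), (99, 107), (99, 111), (99, 123), (99, 127), (100, 108), (100, 124), (101, 109), (101, 125), (102,
  110), (102, 126), (103, 111), (103, 127), (106, 110), (107, 111), (112, 120), (113, 121), (114, 118), (114, 122),
  (114, 126), (115, 119), (115, 123), (115, 127), (116, 124), (117, 125), (118, 126), (119, 127), (122, 126), (123,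
  127)]

/-- a letter -/
def G8_3 : List (ℕ × ℕ) :=
  [(0, 8), (0, 16), (0, 56), (1, 9), (1, 17), (1, 57), (2, 7), (2, 10), (2, 15), (2, 18), (2, 23), (2, 58), (2, 63),
  (3, 6), (3, 7), (3, 11), (3, 14), (3, 15), (3, 19), (3, 22), (3, 23), (3, 59), (3, 62), (3, 63), (4, 12), (4, 20),
  (4, 60), (5, 13), (5, 21), (5, 61), (6, 14), (6, 22), (6, 62), (7, 15), (7, 23), (7, 63), (8, 56), (9, 57), (10,
  15), (10, 58), (10, 63), (11, 14), (11, 15), (11, 59), (11, 62), (11, 63), (12, 60), (13, 61), (14, 62), (15, 63),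
  (16, 56), (17, 57), (18, 23), (18, 58), (18, 63), (19, 22), (19, 23), (19, 59), (19, 62), (19, 63), (20, 60), (21,
  61), (22, 62), (23, 63), (24, 40), (24, 48), (24, 72), (24, 80), (25, 41), (25, 49), (25, 73), (25, 81), (26, 31),
  (26, 42), (26, 47), (26, 50), (26, 55), (26, 74), (26, 79), (26, 82), (26, 87), (27, 30), (27, 31), (27, 43), (27,
  46), (27, 47), (27, 51), (27, 54), (27, 55), (27, 75), (27, 78), (27, 79), (27, 83), (27, 86), (27, 87), (28, 44),
  (28, 52), (28, 76), (28, 84), (29, 45), (29, 53), (29, 77), (29, 85), (30, 46), (30, 54), (30, 78), (30, 86), (31,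
  47), (31, 55), (31, 79), (31, 87), (32, 40), (32, 64), (32, 72), (32, 88), (33, 41), (33, 65), (33, 73), (33, 89),
  (34, 39), (34, 42), (34, 47), (34, 66), (34, 71), (34, 74), (34, 79), (34, 90), (34, 95), (35, 38), (35, 39), (35,
  43), (35, 46), (35, 47), (35, 67), (35, 70), (35, 71), (35, 75), (35, 78), (35, 79), (35, 91), (35, 94), (35, 95),
  (36, 44), (36, 68), (36, 76), (36, 92), (37, 45), (37, 69), (37, 77), (37, 93), (38, 46), (38, 70), (38, 78), (38,
  94), (39, 47), (39, 71), (39, 79), (39, 95), (40, 88), (41, 89), (42, 47), (42, 90), (42, 95), (43, 46), (43, 47),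
  (43, 91), (43, 94), (43, 95), (44, 92), (45, 93), (46, 94), (47, 95), (48, 80), (48, 88), (49, 81), (49, 89), (50,
  55), (50, 82), (50, 87), (50, 90), (50, 95), (51, 54), (51, 55), (51, 83), (51, 86), (51, 87), (51, 91), (51, 94),
  (51, 95), (52, 84), (52, 92), (53, 85), (53, 93), (54, 86), (54, 94), (55, 87), (55, 95), (58, 63), (59, 62), (59,
  63), (64, 80), (64, 88), (65, 81), (65, 89), (66, 71), (66, 82), (66, 87), (66, 90), (66, 95), (67, 70), (67, 71),
  (67, 83), (67, 86), (67, 87), (67, 91), (67, 94), (67, 95), (68, 84), (68, 92), (69, 85), (69, 93), (70, 86), (70,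
  94), (71, 87), (71, 95), (72, 80), (73, 81), (74, 79), (74, 82), (74, 87), (75, 78), (75, 79), (75, 83), (75, 86),
  (75, 87), (76, 84), (77, 85), (78, 86), (79, 87), (82, 87), (83, 86), (83, 87), (90, 95), (91, 94), (91, 95), (96,
  104), (96, 112), (96, 120), (97, 105), (97, 113), (97, 121), (98, 103), (98, 106), (98, 111), (98, 114), (98, 119),
  (98, 122), (98, 127), (99, 102), (99, 103), (99, 107), (99, 110), (99, 111), (99, 115), (99, 118), (99, 119), (99,
  123), (99, 126), (99, 127), (100, 108), (100, 116), (100, 124), (101, 109), (101, 117), (101, 125), (102, 110),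
  (102, 118), (102, 126), (103, 111), (103, 119), (103, 127), (104, 120), (105, 121), (106, 111), (106, 122), (106,
  127), (107, 110), (107, 111), (107, 123), (107, 126), (107, 127), (108, 124), (109, 125), (110, 126), (111, 127),
  (112, 120), (113, 121), (114, 119), (114, 122), (114, 127), (115, 118), (115, 119), (115, 123), (115, 126), (115,
  127), (116, 124), (117, 125), (118, 126), (119, 127), (122, 127), (123, 126), (123, 127)]

/-- a letter -/
def G8_4 : List (ℕ × ℕ) :=
  [(0, 6), (0, 40), (0, 46), (0, 120), (0, 126), (1, 7), (1, 41), (1, 47), (1, 121), (1, 127), (2, 4), (2, 42), (2,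
  44), (2, 122), (2, 124), (3, 5), (3, 43), (3, 45), (3, 123), (3, 125), (4, 44), (4, 124), (5, 45), (5, 125), (6,
  46), (6, 126), (7, 47), (7, 127), (8, 14), (8, 80), (8, 86), (9, 15), (9, 81), (9, 87), (10, 12), (10, 82), (10,
  84), (11, 13), (11, 83), (11, 85), (12, 84), (13, 85), (14, 86), (15, 87), (16, 22), (16, 80), (16, 86), (16, 88),
  (16, 94), (17, 23), (17, 81), (17, 87), (17, 89), (17, 95), (18, 20), (18, 82), (18, 84), (18, 90), (18, 92), (19,
  21), (19, 83), (19, 85), (19, 91), (19, 93), (20, 84), (20, 92), (21, 85), (21, 93), (22, 86), (22, 94), (23, 87),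
  (23, 95), (24, 30), (24, 104), (24, 110), (25, 31), (25, 105), (25, 111), (26, 28), (26, 106), (26, 108), (27, 29),
  (27, 107), (27, 109), (28, 108), (29, 109), (30, 110), (31, 111), (32, 38), (32, 104), (32, 110), (32, 112), (32,
  118), (33, 39), (33, 105), (33, 111), (33, 113), (33, 119), (34, 36), (34, 106), (34, 108), (34, 114), (34, 116),
  (35, 37), (35, 107), (35, 109), (35, 115), (35, 117), (36, 108), (36, 116), (37, 109), (37, 117), (38, 110), (38,
  118), (39, 111), (39, 119), (40, 46), (41, 47), (42, 44), (43, 45), (48, 54), (48, 120), (48, 126), (49, 55), (49,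
  121), (49, 127), (50, 52), (50, 122), (50, 124), (51, 53), (51, 123), (51, 125), (52, 124), (53, 125), (54, 126),
  (55, 127), (56, 62), (57, 63), (58, 60), (59, 61), (64, 70), (65, 71), (66, 68), (67, 69), (72, 78), (73, 79), (74,
  76), (75, 77), (80, 86), (81, 87), (82, 84), (83, 85), (88, 94), (89, 95), (90, 92), (91, 93), (96, 102), (97,
  103), (98, 100), (99, 101), (104, 110), (105, 111), (106, 108), (107, 109), (112, 118), (113, 119), (114, 116),
  (115, 117), (120, 126), (121, 127), (122, 124), (123, 125)]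

/-- a letter -/
def G8_5 : List (ℕ × ℕ) :=
  [(0, 7), (0, 48), (0, 55), (0, 120), (0, 127), (1, 6), (1, 7), (1, 49), (1, 54), (1, 55), (1, 121), (1, 126), (1,
  127), (2, 5), (2, 50), (2, 53), (2, 122), (2, 125), (3, 4), (3, 5), (3, 51), (3, 52), (3, 53), (3, 123), (3, 124),
  (3, 125), (4, 52), (4, 124), (5, 53), (5, 125), (6, 54), (6, 126), (7, 55), (7, 127), (8, 15), (8, 88), (8, 95),
  (9, 14), (9, 15), (9, 89), (9, 94), (9, 95), (10, 13), (10, 90), (10, 93), (11, 12), (11, 13), (11, 91), (11, 92),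
  (11, 93), (12, 92), (13, 93), (14, 94), (15, 95), (16, 23), (16, 80), (16, 87), (17, 22), (17, 23), (17, 81), (17,
  86), (17, 87), (18, 21), (18, 82), (18, 85), (19, 20), (19, 21), (19, 83), (19, 84), (19, 85), (20, 84), (21, 85),
  (22, 86), (23, 87), (24, 31), (24, 112), (24, 119), (25, 30), (25, 31), (25, 113), (25, 118), (25, 119), (26, 29),
  (26, 114), (26, 117), (27, 28), (27, 29), (27, 115), (27, 116), (27, 117), (28, 116), (29, 117), (30, 118), (31,
  119), (32, 39), (32, 104), (32, 111), (33, 38), (33, 39), (33, 105), (33, 110), (33, 111), (34, 37), (34, 106),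
  (34, 109), (35, 36), (35, 37), (35, 107), (35, 108), (35, 109), (36, 108), (37, 109), (38, 110), (39, 111), (40,
  47), (40, 120), (40, 127), (41, 46), (41, 47), (41, 121), (41, 126), (41, 127), (42, 45), (42, 122), (42, 125),
  (43, 44), (43, 45), (43, 123), (43, 124), (43, 125), (44, 124), (45, 125), (46, 126), (47, 127), (48, 55), (49,
  54), (49, 55), (50, 53), (51, 52), (51, 53), (56, 63), (57, 62), (57, 63), (58, 61), (59, 60), (59, 61), (64, 71),
  (65, 70), (65, 71), (66, 69), (67, 68), (67, 69), (72, 79), (73, 78), (73, 79), (74, 77), (75, 76), (75, 77), (80,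
  87), (81, 86), (81, 87), (82, 85), (83, 84), (83, 85), (88, 95), (89, 94), (89, 95), (90, 93), (91, 92), (91, 93),
  (96, 103), (97, 102), (97, 103), (98, 101), (99, 100), (99, 101), (104, 111), (105, 110), (105, 111), (106, 109),
  (107, 108), (107, 109), (112, 119), (113, 118), (113, 119), (114, 117), (115, 116), (115, 117), (120, 127), (121,
  126), (121, 127), (122, 125), (123, 124), (123, 125)]

/-- a letter -/
def G8_6 : List (ℕ × ℕ) :=
  [(0, 4), (0, 24), (0, 28), (0, 96), (0, 100), (1, 5), (1, 25), (1, 29), (1, 97), (1, 101), (2, 26), (2, 98), (3,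
  27), (3, 99), (4, 28), (4, 100), (5, 29), (5, 101), (6, 30), (6, 102), (7, 31), (7, 103), (8, 12), (8, 40), (8,
  44), (8, 64), (8, 68), (8, 104), (8, 108), (9, 13), (9, 41), (9, 45), (9, 65), (9, 69), (9, 105), (9, 109), (10,
  42), (10, 66), (10, 106), (11, 43), (11, 67), (11, 107), (12, 44), (12, 68), (12, 108), (13, 45), (13, 69), (13,
  109), (14, 46), (14, 70), (14, 110), (15, 47), (15, 71), (15, 111), (16, 20), (16, 48), (16, 52), (16, 64), (16,
  68), (16, 72), (16, 76), (16, 112), (16, 116), (17, 21), (17, 49), (17, 53), (17, 65), (17, 69), (17, 73), (17,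
  77), (17, 113), (17, 117), (18, 50), (18, 66), (18, 74), (18, 114), (19, 51), (19, 67), (19, 75), (19, 115), (20,
  52), (20, 68), (20, 76), (20, 116), (21, 53), (21, 69), (21, 77), (21, 117), (22, 54), (22, 70), (22, 78), (22,
  118), (23, 55), (23, 71), (23, 79), (23, 119), (24, 28), (25, 29), (32, 36), (32, 96), (32, 100), (33, 37), (33,
  97), (33, 101), (34, 98), (35, 99), (36, 100), (37, 101), (38, 102), (39, 103), (40, 44), (40, 104), (40, 108),
  (41, 45), (41, 105), (41, 109), (42, 106), (43, 107), (44, 108), (45, 109), (46, 110), (47, 111), (48, 52), (48,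
  112), (48, 116), (49, 53), (49, 113), (49, 117), (50, 114), (51, 115), (52, 116), (53, 117), (54, 118), (55, 119),
  (56, 60), (56, 80), (56, 84), (56, 120), (56, 124), (57, 61), (57, 81), (57, 85), (57, 121), (57, 125), (58, 82),
  (58, 122), (59, 83), (59, 123), (60, 84), (60, 124), (61, 85), (61, 125), (62, 86), (62, 126), (63, 87), (63, 127),
  (64, 68), (64, 104), (64, 108), (65, 69), (65, 105), (65, 109), (66, 106), (67, 107), (68, 108), (69, 109), (70,
  110), (71, 111), (72, 76), (72, 104), (72, 108), (72, 112), (72, 116), (73, 77), (73, 105), (73, 109), (73, 113),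
  (73, 117), (74, 106), (74, 114), (75, 107), (75, 115), (76, 108), (76, 116), (77, 109), (77, 117), (78, 110), (78,
  118), (79, 111), (79, 119), (80, 84), (81, 85), (88, 92), (88, 120), (88, 124), (89, 93), (89, 121), (89, 125),
  (90, 122), (91, 123), (92, 124), (93, 125), (94, 126), (95, 127), (96, 100), (97, 101), (104, 108), (105, 109),
  (112, 116), (113, 117), (120, 124), (121, 125)]

/-- a letter -/
def G8_7 : List (ℕ × ℕ) :=
  [(0, 5), (0, 24), (0, 29), (0, 32), (0, 37), (0, 96), (0, 101), (1, 4), (1, 5), (1, 25), (1, 28), (1, 29), (1, 33),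
  (1, 36), (1, 37), (1, 97), (1, 100), (1, 101), (2, 26), (2, 34), (2, 98), (3, 27), (3, 35), (3, 99), (4, 28), (4,
  36), (4, 100), (5, 29), (5, 37), (5, 101), (6, 30), (6, 38), (6, 102), (7, 31), (7, 39), (7, 103), (8, 13), (8,
  40), (8, 45), (8, 48), (8, 53), (8, 64), (8, 69), (8, 72), (8, 77), (8, 104), (8, 109), (9, 12), (9, 13), (9, 41),
  (9, 44), (9, 45), (9, 49), (9, 52), (9, 53), (9, 65), (9, 68), (9, 69), (9, 73), (9, 76), (9, 77), (9, 105), (9,
  108), (9, 109), (10, 42), (10, 50), (10, 66), (10, 74), (10, 106), (11, 43), (11, 51), (11, 67), (11, 75), (11,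
  107), (12, 44), (12, 52), (12, 68), (12, 76), (12, 108), (13, 45), (13, 53), (13, 69), (13, 77), (13, 109), (14,
  46), (14, 54), (14, 70), (14, 78), (14, 110), (15, 47), (15, 55), (15, 71), (15, 79), (15, 111), (16, 21), (16,
  40), (16, 45), (16, 72), (16, 77), (16, 112), (16, 117), (17, 20), (17, 21), (17, 41), (17, 44), (17, 45), (17,
  73), (17, 76), (17, 77), (17, 113), (17, 116), (17, 117), (18, 42), (18, 74), (18, 114), (19, 43), (19, 75), (19,
  115), (20, 44), (20, 76), (20, 116), (21, 45), (21, 77), (21, 117), (22, 46), (22, 78), (22, 118), (23, 47), (23,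
  79), (23, 119), (24, 29), (24, 96), (24, 101), (25, 28), (25, 29), (25, 97), (25, 100), (25, 101), (26, 98), (27,
  99), (28, 100), (29, 101), (30, 102), (31, 103), (32, 37), (32, 96), (32, 101), (33, 36), (33, 37), (33, 97), (33,
  100), (33, 101), (34, 98), (35, 99), (36, 100), (37, 101), (38, 102), (39, 103), (40, 45), (40, 112), (40, 117),
  (41, 44), (41, 45), (41, 113), (41, 116), (41, 117), (42, 114), (43, 115), (44, 116), (45, 117), (46, 118), (47,
  119), (48, 53), (48, 104), (48, 109), (48, 112), (48, 117), (49, 52), (49, 53), (49, 105), (49, 108), (49, 109),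
  (49, 113), (49, 116), (49, 117), (50, 106), (50, 114), (51, 107), (51, 115), (52, 108), (52, 116), (53, 109), (53,
  117), (54, 110), (54, 118), (55, 111), (55, 119), (56, 61), (56, 80), (56, 85), (56, 88), (56, 93), (56, 120), (56,
  125), (57, 60), (57, 61), (57, 81), (57, 84), (57, 85), (57, 89), (57, 92), (57, 93), (57, 121), (57, 124), (57,
  125), (58, 82), (58, 90), (58, 122), (59, 83), (59, 91), (59, 123), (60, 84), (60, 92), (60, 124), (61, 85), (61,
  93), (61, 125), (62, 86), (62, 94), (62, 126), (63, 87), (63, 95), (63, 127), (64, 69), (64, 104), (64, 109), (64,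
  112), (64, 117), (65, 68), (65, 69), (65, 105), (65, 108), (65, 109), (65, 113), (65, 116), (65, 117), (66, 106),
  (66, 114), (67, 107), (67, 115), (68, 108), (68, 116), (69, 109), (69, 117), (70, 110), (70, 118), (71, 111), (71,
  119), (72, 77), (72, 112), (72, 117), (73, 76), (73, 77), (73, 113), (73, 116), (73, 117), (74, 114), (75, 115),
  (76, 116), (77, 117), (78, 118), (79, 119), (80, 85), (80, 120), (80, 125), (81, 84), (81, 85), (81, 121), (81,
  124), (81, 125), (82, 122), (83, 123), (84, 124), (85, 125), (86, 126), (87, 127), (88, 93), (88, 120), (88, 125),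
  (89, 92), (89, 93), (89, 121), (89, 124), (89, 125), (90, 122), (91, 123), (92, 124), (93, 125), (94, 126), (95,
  127), (96, 101), (97, 100), (97, 101), (104, 109), (105, 108), (105, 109), (112, 117), (113, 116), (113, 117),
  (120, 125), (121, 124), (121, 125)]

/-- a letter -/
def G8_8 : List (ℕ × ℕ) :=
  [(2, 0), (3, 1), (4, 6), (5, 7), (10, 8), (11, 9), (12, 14), (13, 15), (18, 16), (19, 17), (20, 22), (21, 23), (24,
  8), (25, 9), (26, 8), (26, 10), (26, 24), (27, 9), (27, 11), (27, 25), (28, 12), (28, 14), (28, 30), (29, 13), (29,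
  15), (29, 31), (30, 14), (31, 15), (32, 16), (33, 17), (34, 16), (34, 18), (34, 32), (35, 17), (35, 19), (35, 33),
  (36, 20), (36, 22), (36, 38), (37, 21), (37, 23), (37, 39), (38, 22), (39, 23), (42, 40), (43, 41), (44, 46), (45,
  47), (50, 48), (51, 49), (52, 54), (53, 55), (58, 56), (59, 57), (60, 62), (61, 63), (66, 64), (67, 65), (68, 70),
  (69, 71), (72, 56), (73, 57), (74, 56), (74, 58), (74, 72), (75, 57), (75, 59), (75, 73), (76, 60), (76, 62), (76,
  78), (77, 61), (77, 63), (77, 79), (78, 62), (79, 63), (82, 80), (83, 81), (84, 86), (85, 87), (90, 88), (91, 89),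
  (92, 94), (93, 95), (96, 56), (96, 64), (97, 57), (97, 65), (98, 56), (98, 58), (98, 64), (98, 66), (98, 96), (99,
  57), (99, 59), (99, 65), (99, 67), (99, 97), (100, 60), (100, 62), (100, 68), (100, 70), (100, 102), (101, 61),
  (101, 63), (101, 69), (101, 71), (101, 103), (102, 62), (102, 70), (103, 63), (103, 71), (104, 80), (105, 81),
  (106, 80), (106, 82), (106, 104), (107, 81), (107, 83), (107, 105), (108, 84), (108, 86), (108, 110), (109, 85),
  (109, 87), (109, 111), (110, 86), (111, 87), (112, 88), (113, 89), (114, 88), (114, 90), (114, 112), (115, 89),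
  (115, 91), (115, 113), (116, 92), (116, 94), (116, 118), (117, 93), (117, 95), (117, 119), (118, 94), (119, 95),
  (122, 120), (123, 121), (124, 126), (125, 127)]

/-- a letter -/
def G8_9 : List (ℕ × ℕ) :=
  [(2, 1), (3, 0), (3, 1), (4, 7), (5, 6), (5, 7), (10, 9), (11, 8), (11, 9), (12, 15), (13, 14), (13, 15), (18, 17),
  (19, 16), (19, 17), (20, 23), (21, 22), (21, 23), (24, 16), (25, 17), (26, 17), (26, 18), (26, 25), (27, 16), (27,
  17), (27, 19), (27, 24), (27, 25), (28, 20), (28, 23), (28, 31), (29, 21), (29, 22), (29, 23), (29, 30), (29, 31),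
  (30, 22), (31, 23), (32, 8), (32, 16), (33, 9), (33, 17), (34, 9), (34, 10), (34, 17), (34, 18), (34, 33), (35, 8),
  (35, 9), (35, 11), (35, 16), (35, 17), (35, 19), (35, 32), (35, 33), (36, 12), (36, 15), (36, 20), (36, 23), (36,
  39), (37, 13), (37, 14), (37, 15), (37, 21), (37, 22), (37, 23), (37, 38), (37, 39), (38, 14), (38, 22), (39, 15),
  (39, 23), (42, 41), (43, 40), (43, 41), (44, 47), (45, 46), (45, 47), (50, 49), (51, 48), (51, 49), (52, 55), (53,
  54), (53, 55), (58, 57), (59, 56), (59, 57), (60, 63), (61, 62), (61, 63), (64, 56), (65, 57), (66, 57), (66, 58),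
  (66, 65), (67, 56), (67, 57), (67, 59), (67, 64), (67, 65), (68, 60), (68, 63), (68, 71), (69, 61), (69, 62), (69,
  63), (69, 70), (69, 71), (70, 62), (71, 63), (72, 56), (73, 57), (74, 57), (74, 58), (74, 73), (75, 56), (75, 57),
  (75, 59), (75, 72), (75, 73), (76, 60), (76, 63), (76, 79), (77, 61), (77, 62), (77, 63), (77, 78), (77, 79), (78,
  62), (79, 63), (82, 81), (83, 80), (83, 81), (84, 87), (85, 86), (85, 87), (90, 89), (91, 88), (91, 89), (92, 95),
  (93, 94), (93, 95), (96, 56), (96, 64), (96, 72), (97, 57), (97, 65), (97, 73), (98, 57), (98, 58), (98, 65), (98,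
  66), (98, 73), (98, 74), (98, 97), (99, 56), (99, 57), (99, 59), (99, 64), (99, 65), (99, 67), (99, 72), (99, 73),
  (99, 75), (99, 96), (99, 97), (100, 60), (100, 63), (100, 68), (100, 71), (100, 76), (100, 79), (100, 103), (101,
  61), (101, 62), (101, 63), (101, 69), (101, 70), (101, 71), (101, 77), (101, 78), (101, 79), (101, 102), (101,
  103), (102, 62), (102, 70), (102, 78), (103, 63), (103, 71), (103, 79), (104, 80), (104, 88), (105, 81), (105, 89),
  (106, 81), (106, 82), (106, 89), (106, 90), (106, 105), (107, 80), (107, 81), (107, 83), (107, 88), (107, 89),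
  (107, 91), (107, 104), (107, 105), (108, 84), (108, 87), (108, 92), (108, 95), (108, 111), (109, 85), (109, 86),
  (109, 87), (109, 93), (109, 94), (109, 95), (109, 110), (109, 111), (110, 86), (110, 94), (111, 87), (111, 95),
  (112, 80), (113, 81), (114, 81), (114, 82), (114, 113), (115, 80), (115, 81), (115, 83), (115, 112), (115, 113),
  (116, 84), (116, 87), (116, 119), (117, 85), (117, 86), (117, 87), (117, 118), (117, 119), (118, 86), (119, 87),
  (122, 121), (123, 120), (123, 121), (124, 127), (125, 126), (125, 127)]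

/-- a letter -/
def G8_10 : List (ℕ × ℕ) :=
  [(6, 2), (7, 3), (14, 10), (15, 11), (16, 0), (17, 1), (18, 2), (19, 3), (20, 4), (21, 5), (22, 2), (22, 6), (22,
  18), (23, 3), (23, 7), (23, 19), (30, 26), (31, 27), (38, 34), (39, 35), (40, 24), (41, 25), (42, 26), (43, 27),
  (44, 28), (45, 29), (46, 26), (46, 30), (46, 42), (47, 27), (47, 31), (47, 43), (48, 32), (49, 33), (50, 34), (51,
  35), (52, 36), (53, 37), (54, 34), (54, 38), (54, 50), (55, 35), (55, 39), (55, 51), (56, 0), (56, 8), (57, 1),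
  (57, 9), (58, 2), (58, 10), (59, 3), (59, 11), (60, 4), (60, 12), (61, 5), (61, 13), (62, 2), (62, 6), (62, 10),
  (62, 14), (62, 58), (63, 3), (63, 7), (63, 11), (63, 15), (63, 59), (64, 24), (65, 25), (66, 26), (67, 27), (68,
  28), (69, 29), (70, 26), (70, 30), (70, 66), (71, 27), (71, 31), (71, 67), (72, 32), (73, 33), (74, 34), (75, 35),
  (76, 36), (77, 37), (78, 34), (78, 38), (78, 74), (79, 35), (79, 39), (79, 75), (80, 24), (80, 40), (80, 64), (81,
  25), (81, 41), (81, 65), (82, 26), (82, 42), (82, 66), (83, 27), (83, 43), (83, 67), (84, 28), (84, 44), (84, 68),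
  (85, 29), (85, 45), (85, 69), (86, 26), (86, 30), (86, 42), (86, 46), (86, 66), (86, 70), (86, 82), (87, 27), (87,
  31), (87, 43), (87, 47), (87, 67), (87, 71), (87, 83), (88, 32), (88, 48), (88, 72), (89, 33), (89, 49), (89, 73),
  (90, 34), (90, 50), (90, 74), (91, 35), (91, 51), (91, 75), (92, 36), (92, 52), (92, 76), (93, 37), (93, 53), (93,
  77), (94, 34), (94, 38), (94, 50), (94, 54), (94, 74), (94, 78), (94, 90), (95, 35), (95, 39), (95, 51), (95, 55),
  (95, 75), (95, 79), (95, 91), (102, 98), (103, 99), (110, 106), (111, 107), (112, 96), (113, 97), (114, 98), (115,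
  99), (116, 100), (117, 101), (118, 98), (118, 102), (118, 114), (119, 99), (119, 103), (119, 115), (120, 96), (120,
  104), (121, 97), (121, 105), (122, 98), (122, 106), (123, 99), (123, 107), (124, 100), (124, 108), (125, 101),
  (125, 109), (126, 98), (126, 102), (126, 106), (126, 110), (126, 122), (127, 99), (127, 103), (127, 107), (127,
  111), (127, 123)]

/-- a letter -/
def G8_11 : List (ℕ × ℕ) :=
  [(6, 3), (7, 2), (7, 3), (8, 0), (9, 1), (10, 2), (11, 3), (12, 4), (13, 5), (14, 3), (14, 6), (14, 11), (15, 2),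
  (15, 3), (15, 7), (15, 10), (15, 11), (22, 19), (23, 18), (23, 19), (30, 27), (31, 26), (31, 27), (38, 35), (39,
  34), (39, 35), (40, 24), (40, 32), (41, 25), (41, 33), (42, 26), (42, 34), (43, 27), (43, 35), (44, 28), (44, 36),
  (45, 29), (45, 37), (46, 27), (46, 30), (46, 35), (46, 38), (46, 43), (47, 26), (47, 27), (47, 31), (47, 34), (47,
  35), (47, 39), (47, 42), (47, 43), (48, 24), (49, 25), (50, 26), (51, 27), (52, 28), (53, 29), (54, 27), (54, 30),
  (54, 51), (55, 26), (55, 27), (55, 31), (55, 50), (55, 51), (56, 0), (56, 16), (57, 1), (57, 17), (58, 2), (58,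
  18), (59, 3), (59, 19), (60, 4), (60, 20), (61, 5), (61, 21), (62, 3), (62, 6), (62, 19), (62, 22), (62, 59), (63,
  2), (63, 3), (63, 7), (63, 18), (63, 19), (63, 23), (63, 58), (63, 59), (64, 32), (65, 33), (66, 34), (67, 35),
  (68, 36), (69, 37), (70, 35), (70, 38), (70, 67), (71, 34), (71, 35), (71, 39), (71, 66), (71, 67), (72, 24), (72,
  32), (73, 25), (73, 33), (74, 26), (74, 34), (75, 27), (75, 35), (76, 28), (76, 36), (77, 29), (77, 37), (78, 27),
  (78, 30), (78, 35), (78, 38), (78, 75), (79, 26), (79, 27), (79, 31), (79, 34), (79, 35), (79, 39), (79, 74), (79,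
  75), (80, 24), (80, 48), (80, 64), (80, 72), (81, 25), (81, 49), (81, 65), (81, 73), (82, 26), (82, 50), (82, 66),
  (82, 74), (83, 27), (83, 51), (83, 67), (83, 75), (84, 28), (84, 52), (84, 68), (84, 76), (85, 29), (85, 53), (85,
  69), (85, 77), (86, 27), (86, 30), (86, 51), (86, 54), (86, 67), (86, 70), (86, 75), (86, 78), (86, 83), (87, 26),
  (87, 27), (87, 31), (87, 50), (87, 51), (87, 55), (87, 66), (87, 67), (87, 71), (87, 74), (87, 75), (87, 79), (87,
  82), (87, 83), (88, 32), (88, 40), (88, 48), (88, 64), (89, 33), (89, 41), (89, 49), (89, 65), (90, 34), (90, 42),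
  (90, 50), (90, 66), (91, 35), (91, 43), (91, 51), (91, 67), (92, 36), (92, 44), (92, 52), (92, 68), (93, 37), (93,
  45), (93, 53), (93, 69), (94, 35), (94, 38), (94, 43), (94, 46), (94, 51), (94, 54), (94, 67), (94, 70), (94, 91),
  (95, 34), (95, 35), (95, 39), (95, 42), (95, 43), (95, 47), (95, 50), (95, 51), (95, 55), (95, 66), (95, 67), (95,
  71), (95, 90), (95, 91), (102, 99), (103, 98), (103, 99), (104, 96), (105, 97), (106, 98), (107, 99), (108, 100),
  (109, 101), (110, 99), (110, 102), (110, 107), (111, 98), (111, 99), (111, 103), (111, 106), (111, 107), (118,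
  115), (119, 114), (119, 115), (120, 96), (120, 112), (121, 97), (121, 113), (122, 98), (122, 114), (123, 99), (123,
  115), (124, 100), (124, 116), (125, 101), (125, 117), (126, 99), (126, 102), (126, 115), (126, 118), (126, 123),
  (127, 98), (127, 99), (127, 103), (127, 114), (127, 115), (127, 119), (127, 122), (127, 123)]

/-- a letter -/
def G8_12 : List (ℕ × ℕ) :=
  [(0, 0), (0, 1), (1, 0), (2, 3), (3, 2), (3, 3), (4, 5), (5, 4), (5, 5), (6, 6), (6, 7), (7, 6), (8, 8), (8, 17),
  (9, 9), (9, 16), (9, 17), (10, 10), (10, 18), (10, 19), (11, 11), (11, 18), (12, 12), (12, 20), (12, 21), (13, 13),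
  (13, 20), (14, 14), (14, 23), (15, 15), (15, 22), (15, 23), (16, 9), (16, 16), (16, 17), (17, 8), (17, 9), (17,
  16), (18, 10), (18, 11), (18, 19), (19, 10), (19, 18), (19, 19), (20, 12), (20, 13), (20, 21), (21, 12), (21, 20),
  (21, 21), (22, 15), (22, 22), (22, 23), (23, 14), (23, 15), (23, 22), (24, 24), (24, 25), (24, 33), (25, 24), (25,
  32), (25, 33), (26, 27), (26, 34), (26, 35), (27, 26), (27, 27), (27, 34), (28, 29), (28, 36), (28, 37), (29, 28),
  (29, 29), (29, 36), (30, 30), (30, 31), (30, 39), (31, 30), (31, 38), (31, 39), (32, 25), (32, 32), (33, 24), (33,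
  25), (33, 33), (34, 26), (34, 27), (34, 34), (35, 26), (35, 35), (36, 28), (36, 29), (36, 36), (37, 28), (37, 37),
  (38, 31), (38, 38), (39, 30), (39, 31), (39, 39), (40, 40), (40, 41), (41, 40), (42, 43), (43, 42), (43, 43), (44,
  45), (45, 44), (45, 45), (46, 46), (46, 47), (47, 46), (48, 48), (48, 49), (49, 48), (50, 51), (51, 50), (51, 51),
  (52, 53), (53, 52), (53, 53), (54, 54), (54, 55), (55, 54), (56, 56), (56, 57), (57, 56), (58, 59), (59, 58), (59,
  59), (60, 61), (61, 60), (61, 61), (62, 62), (62, 63), (63, 62), (64, 64), (64, 73), (65, 65), (65, 72), (65, 73),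
  (66, 66), (66, 74), (66, 75), (67, 67), (67, 74), (68, 68), (68, 76), (68, 77), (69, 69), (69, 76), (70, 70), (70,
  79), (71, 71), (71, 78), (71, 79), (72, 65), (72, 72), (72, 73), (73, 64), (73, 65), (73, 72), (74, 66), (74, 67),
  (74, 75), (75, 66), (75, 74), (75, 75), (76, 68), (76, 69), (76, 77), (77, 68), (77, 76), (77, 77), (78, 71), (78,
  78), (78, 79), (79, 70), (79, 71), (79, 78), (80, 80), (80, 81), (80, 89), (81, 80), (81, 88), (81, 89), (82, 83),
  (82, 90), (82, 91), (83, 82), (83, 83), (83, 90), (84, 85), (84, 92), (84, 93), (85, 84), (85, 85), (85, 92), (86,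
  86), (86, 87), (86, 95), (87, 86), (87, 94), (87, 95), (88, 81), (88, 88), (89, 80), (89, 81), (89, 89), (90, 82),
  (90, 83), (90, 90), (91, 82), (91, 91), (92, 84), (92, 85), (92, 92), (93, 84), (93, 93), (94, 87), (94, 94), (95,
  86), (95, 87), (95, 95), (96, 96), (96, 97), (97, 96), (98, 99), (99, 98), (99, 99), (100, 101), (101, 100), (101,
  101), (102, 102), (102, 103), (103, 102), (104, 104), (104, 113), (105, 105), (105, 112), (105, 113), (106, 106),
  (106, 114), (106, 115), (107, 107), (107, 114), (108, 108), (108, 116), (108, 117), (109, 109), (109, 116), (110,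
  110), (110, 119), (111, 111), (111, 118), (111, 119), (112, 105), (112, 112), (112, 113), (113, 104), (113, 105),
  (113, 112), (114, 106), (114, 107), (114, 115), (115, 106), (115, 114), (115, 115), (116, 108), (116, 109), (116,
  117), (117, 108), (117, 116), (117, 117), (118, 111), (118, 118), (118, 119), (119, 110), (119, 111), (119, 118),
  (120, 120), (120, 121), (121, 120), (122, 123), (123, 122), (123, 123), (124, 125), (125, 124), (125, 125), (126,
  126), (126, 127), (127, 126)]

/-- a letter -/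
def G8_13 : List (ℕ × ℕ) :=
  [(2, 2), (2, 3), (3, 2), (6, 7), (7, 6), (7, 7), (8, 16), (9, 17), (10, 10), (10, 11), (10, 19), (11, 10), (11,
  18), (11, 19), (12, 20), (13, 21), (14, 15), (14, 22), (14, 23), (15, 14), (15, 15), (15, 22), (16, 8), (16, 16),
  (17, 9), (17, 17), (18, 11), (18, 18), (19, 10), (19, 11), (19, 19), (20, 12), (20, 20), (21, 13), (21, 21), (22,
  14), (22, 15), (22, 22), (23, 14), (23, 23), (26, 26), (26, 27), (27, 26), (30, 31), (31, 30), (31, 31), (34, 34),
  (34, 35), (35, 34), (38, 39), (39, 38), (39, 39), (40, 48), (41, 49), (42, 42), (42, 43), (42, 51), (43, 42), (43,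
  50), (43, 51), (44, 52), (45, 53), (46, 47), (46, 54), (46, 55), (47, 46), (47, 47), (47, 54), (48, 40), (48, 48),
  (49, 41), (49, 49), (50, 43), (50, 50), (51, 42), (51, 43), (51, 51), (52, 44), (52, 52), (53, 45), (53, 53), (54,
  46), (54, 47), (54, 54), (55, 46), (55, 55), (58, 58), (58, 59), (59, 58), (62, 63), (63, 62), (63, 63), (64, 64),
  (64, 72), (65, 65), (65, 73), (66, 66), (66, 75), (67, 67), (67, 74), (67, 75), (68, 68), (68, 76), (69, 69), (69,
  77), (70, 70), (70, 78), (70, 79), (71, 71), (71, 78), (72, 64), (73, 65), (74, 67), (74, 74), (74, 75), (75, 66),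
  (75, 67), (75, 74), (76, 68), (77, 69), (78, 70), (78, 71), (78, 79), (79, 70), (79, 78), (79, 79), (82, 82), (82,
  83), (83, 82), (86, 87), (87, 86), (87, 87), (90, 90), (90, 91), (91, 90), (94, 95), (95, 94), (95, 95), (98, 98),
  (98, 99), (99, 98), (102, 103), (103, 102), (103, 103), (104, 112), (105, 113), (106, 106), (106, 107), (106, 115),
  (107, 106), (107, 114), (107, 115), (108, 116), (109, 117), (110, 111), (110, 118), (110, 119), (111, 110), (111,
  111), (111, 118), (112, 104), (112, 112), (113, 105), (113, 113), (114, 107), (114, 114), (115, 106), (115, 107),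
  (115, 115), (116, 108), (116, 116), (117, 109), (117, 117), (118, 110), (118, 111), (118, 118), (119, 110), (119,
  119), (122, 122), (122, 123), (123, 122), (126, 127), (127, 126), (127, 127)]

/-- the simple module `128b` -/
def G8 : List (List (ℕ × ℕ)) :=
  [G8_0, G8_1, G8_2, G8_3, G8_4, G8_5, G8_6, G8_7, G8_8, G8_9, G8_10, G8_11, G8_12, G8_13]

/-- a tree of words -/
def p8 : List (ℕ × ℕ) :=
  [(0, 0), (0, 4), (0, 2), (0, 5), (0, 6), (0, 1), (0, 12), (0, 3), (0, 7), (1, 4), (1, 2), (1, 5), (1, 6), (1, 3),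
  (1, 7), (2, 13), (2, 2), (2, 10), (2, 6), (2, 1), (2, 11), (2, 12), (2, 3), (2, 7), (3, 0), (3, 10), (3, 5), (3,
  6), (3, 1), (3, 12), (3, 7), (4, 10), (4, 6), (4, 1), (4, 11), (4, 12), (4, 3), (4, 7), (5, 8), (5, 1), (5, 9), (5,
  12), (5, 3), (5, 7), (6, 2), (6, 3), (6, 7), (7, 2), (7, 6), (7, 3), (8, 0), (8, 1), (8, 7), (9, 8), (9, 9), (9,
  12), (10, 13), (10, 2), (10, 5), (10, 11), (10, 3), (11, 10), (11, 5), (11, 6), (11, 1), (11, 12), (11, 3), (11,
  7), (12, 10), (12, 6), (12, 3), (12, 7), (13, 9), (13, 3), (13, 7), (14, 1), (14, 7), (15, 9), (15, 12), (16, 2),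
  (16, 10), (16, 6), (16, 11), (16, 12), (16, 3), (16, 7), (17, 10), (17, 1), (17, 11), (17, 12), (17, 7), (18, 13),
  (18, 5), (18, 1), (18, 9), (18, 11), (18, 12), (18, 3), (19, 9), (19, 3), (20, 2), (20, 3), (21, 8), (21, 2), (21,
  9), (21, 12), (21, 3), (22, 2), (22, 3), (23, 0), (23, 10), (23, 1), (23, 11), (23, 7), (24, 8), (24, 9), (25, 10),
  (25, 5), (25, 1), (25, 9), (25, 12), (25, 3), (25, 7), (26, 6), (26, 7), (27, 6), (27, 11)]

/-- a tree of words -/
def q8 : List (ℕ × ℕ) :=
  [(0, 8), (0, 10), (0, 9), (0, 11), (0, 12), (1, 10), (1, 11), (2, 8), (2, 2), (2, 9), (2, 12), (3, 10), (3, 11),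
  (4, 8), (4, 9), (4, 12), (5, 11), (6, 8), (6, 2), (6, 9), (6, 11), (6, 12), (7, 8), (7, 9), (8, 0), (8, 2), (8,
  10), (8, 1), (8, 9), (8, 11), (8, 12), (9, 9), (10, 0), (10, 13), (10, 10), (10, 1), (10, 11), (10, 12), (12, 8),
  (12, 2), (12, 9), (13, 8), (13, 9), (14, 0), (14, 10), (14, 11), (14, 12), (15, 0), (15, 10), (15, 11), (18, 0),
  (18, 2), (18, 10), (18, 9), (18, 11), (18, 12), (19, 9), (20, 0), (20, 10), (20, 6), (20, 1), (20, 11), (20, 12),
  (21, 8), (23, 0), (23, 10), (23, 9), (23, 11), (24, 10), (24, 11), (24, 12), (25, 10), (25, 11), (26, 10), (26,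
  11), (27, 4), (27, 2), (27, 5), (27, 1), (27, 9), (27, 11), (27, 12), (27, 3), (28, 11), (29, 10), (29, 11), (30,
  4), (30, 13), (30, 2), (30, 5), (30, 9), (30, 12), (30, 3), (31, 11), (33, 10), (33, 11), (35, 2), (35, 5), (35,
  1), (35, 9), (35, 11), (35, 12), (36, 11), (37, 8), (37, 4), (37, 13), (37, 5), (37, 9), (37, 3), (39, 11), (41,
  11), (42, 10), (42, 11), (43, 11), (45, 2), (45, 9), (45, 11), (45, 12), (46, 13), (49, 8), (49, 2), (49, 12), (51,
  10), (51, 11), (52, 10), (52, 11), (53, 4)]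

end Cfsg.Agent.E82.M44
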