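import Cfsg.Agent.E82.M44.Tab
import Cfsg.Agent.E82.M44.Ex

/-!
# The pressure machine for `Sp₄(4)`: the checks of the small tables (helper79)
-/

set_option autoImplicit false
set_option maxRecDepth 100000
set_option Elab.async false

namespace Cfsg.Agent.E82.M44

open Cfsg.Agent.E82.Mach

theorem tb0 : tbOk bs (hs.getD 0 []) (Ms.getD 0 0) 1 G0 = true := by decide +kernel

theorem rel0_0 : relOk bs 1 G0 0 64 = true := by decide +kernel

theorem rel0 : Rel bs 1 G0 0 :=
  Rel.step rel0_0 (Rel.last (by decide))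

theorem sp0 : spinOk 1 G0 p0 = true := by decide +kernel

theorem sq0 : spinOk 1 (trG G0) q0 = true := by decide +kernel

theorem fx0 : fixOk C 1 G0 (rows.getD 0 []) = true := by decide +kernel

theorem zz0 : Nat.ble 1 (zRk 1 G0 C.g C.h C.R + 0) = true := by decide +kernel

theorem tb1 : tbOk bs (hs.getD 1 []) (Ms.getD 1 0) 8 G1 = true := by decide +kernel

theorem rel1_0 : relOk bs 8 G1 0 64 = true := by decide +kernel

theorem rel1 : Rel bs 8 G1 0 :=
  Rel.step rel1_0 (Rel.last (by decide))

theorem sp1 : spinOk 8 G1 p1 = true := by decide +kernel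

theorem sq1 : spinOk 8 (trG G1) q1 = true := by decide +kernel

theorem fx1 : fixOk C 8 G1 (rows.getD 1 []) = true := by decide +kernel

theorem zz1 : Nat.ble 8 (zRk 8 G1 C.g C.h C.R + 2) = true := by decide +kernel

theorem tb2 : tbOk bs (hs.getD 2 []) (Ms.getD 2 0) 8 G2 = true := by decide +kernel

theorem rel2_0 : relOk bs 8 G2 0 64 = true := by decide +kernel

theorem rel2 : Rel bs 8 G2 0 :=
  Rel.step rel2_0 (Rel.last (by decide))

theorem sp2 : spinOk 8 G2 p2 = true := by decide +kernel

theorem sq2 : spinOk 8 (trG G2) q2 = true := by decide +kernel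

theorem fx2 : fixOk C 8 G2 (rows.getD 2 []) = true := by decide +kernel

theorem zz2 : Nat.ble 8 (zRk 8 G2 C.g C.h C.R + 2) = true := by decide +kernel

theorem tb3 : tbOk bs (hs.getD 3 []) (Ms.getD 3 0) 16 G3 = true := by decide +kernel

theorem rel3_0 : relOk bs 16 G3 0 64 = true := by decide +kernel

theorem rel3 : Rel bs 16 G3 0 :=
  Rel.step rel3_0 (Rel.last (by decide))

theorem sp3 : spinOk 16 G3 p3 = true := by decide +kernel

theorem sq3 : spinOk 16 (trG G3) q3 = true := by decide +kernel

theorem fx3 : fixOk C 16 G3 (rows.getD 3 []) = true := by decide +kernel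

theorem zz3 : Nat.ble 16 (zRk 16 G3 C.g C.h C.R + 0) = true := by decide +kernel

theorem tb4 : tbOk bs (hs.getD 4 []) (Ms.getD 4 0) 16 G4 = true := by decide +kernel

theorem rel4_0 : relOk bs 16 G4 0 64 = true := by decide +kernel

theorem rel4 : Rel bs 16 G4 0 :=
  Rel.step rel4_0 (Rel.last (by decide))

theorem sp4 : spinOk 16 G4 p4 = true := by decide +kernel

theorem sq4 : spinOk 16 (trG G4) q4 = true := by decide +kernel

theorem fx4 : fixOk C 16 G4 (rows.getD 4 []) = true := by decide +kernel

theorem zz4 : Nat.ble 16 (zRk 16 G4 C.g C.h C.R + 0) = true := by decide +kernel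

theorem tb5 : tbOk bs (hs.getD 5 []) (Ms.getD 5 0) 32 G5 = true := by decide +kernel

theorem rel5_0 : relOk bs 32 G5 0 64 = true := by decide +kernel

theorem rel5 : Rel bs 32 G5 0 :=
  Rel.step rel5_0 (Rel.last (by decide))

theorem sp5 : spinOk 32 G5 p5 = true := by decide +kernel

theorem sq5 : spinOk 32 (trG G5) q5 = true := by decide +kernel

theorem fx5 : fixOk C 32 G5 (rows.getD 5 []) = true := by decide +kernel

theorem zz5 : Nat.ble 32 (zRk 32 G5 C.g C.h C.R + 0) = true := by decide +kernel

theorem tb6 : tbOk bs (hs.getD 6 []) (Ms.getD 6 0) 32 G6 = true := by decide +kernel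

theorem rel6_0 : relOk bs 32 G6 0 64 = true := by decide +kernel

theorem rel6 : Rel bs 32 G6 0 :=
  Rel.step rel6_0 (Rel.last (by decide))

theorem sp6 : spinOk 32 G6 p6 = true := by decide +kernel

theorem sq6 : spinOk 32 (trG G6) q6 = true := by decide +kernel

theorem fx6 : fixOk C 32 G6 (rows.getD 6 []) = true := by decide +kernel

theorem zz6 : Nat.ble 32 (zRk 32 G6 C.g C.h C.R + 0) = true := by decide +kernel

end Cfsg.Agent.E82.M44
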