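import Cfsg.Agent.E82.Mach.Main

/-!
# The pressure machine for `Sp₄(4)`: the simple modules of dimension at most 32 (helper79)
-/

set_option autoImplicit false
set_option maxRecDepth 100000

namespace Cfsg.Agent.E82.M44

open Cfsg.Agent.E82.Mach

/-- the simple module `1` -/
def G0 : List (List (ℕ × ℕ)) :=
  [[], [], [], [], [], [], [], [], [], [], [], [], [], []]

/-- a tree of words -/
def p0 : List (ℕ × ℕ) :=
  []

/-- a tree of words -/
def q0 : List (ℕ × ℕ) :=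
  []

/-- the simple module `8a` -/
def G1 : List (List (ℕ × ℕ)) :=
  [[(0, 2), (1, 3), (6, 4), (7, 5)], [(0, 3), (1, 2), (1, 3), (6, 5), (7, 4), (7, 5)], [(2, 6), (3, 7)], [(2, 7), (3,
  6), (3, 7)], [(0, 6), (1, 7), (2, 4), (3, 5)], [(0, 7), (1, 6), (1, 7), (2, 5), (3, 4), (3, 5)], [(0, 4), (1, 5)],
  [(0, 5), (1, 4), (1, 5)], [(2, 0), (3, 1), (4, 6), (5, 7)], [(2, 1), (3, 0), (3, 1), (4, 7), (5, 6), (5, 7)], [(6,
  2), (7, 3)], [(6, 3), (7, 2), (7, 3)], [(0, 0), (0, 1), (1, 0), (2, 3), (3, 2), (3, 3), (4, 5), (5, 4), (5, 5), (6,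
  6), (6, 7), (7, 6)], [(2, 2), (2, 3), (3, 2), (6, 7), (7, 6), (7, 7)]]

/-- a tree of words -/
def p1 : List (ℕ × ℕ) :=
  [(0, 6), (0, 7), (0, 0), (0, 4), (0, 1), (0, 5), (0, 12)]

/-- a tree of words -/
def q1 : List (ℕ × ℕ) :=
  [(0, 8), (0, 9), (0, 12), (1, 10), (1, 11), (4, 8), (4, 9)]

/-- the simple module `8b` -/
def G2 : List (List (ℕ × ℕ)) :=
  [[(2, 4), (3, 5)], [(2, 4), (2, 5), (3, 4)], [(0, 2), (1, 3), (4, 6), (5, 7)], [(0, 3), (1, 2), (1, 3), (4, 7), (5,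
  6), (5, 7)], [(0, 6), (1, 7)], [(0, 6), (0, 7), (1, 6)], [(0, 4), (1, 5), (2, 6), (3, 7)], [(0, 5), (1, 4), (1, 5),
  (2, 7), (3, 6), (3, 7)], [(4, 2), (5, 3)], [(4, 2), (4, 3), (5, 2)], [(2, 0), (3, 1), (6, 4), (7, 5)], [(2, 1), (3,
  0), (3, 1), (6, 5), (7, 4), (7, 5)], [(2, 3), (3, 2), (3, 3), (4, 4), (4, 5), (5, 4)], [(0, 0), (0, 1), (1, 0), (2,
  3), (3, 2), (3, 3), (4, 4), (4, 5), (5, 4), (6, 7), (7, 6), (7, 7)]]

/-- a tree of words -/
def p2 : List (ℕ × ℕ) :=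
  [(0, 4), (0, 5), (0, 2), (0, 6), (0, 3), (0, 7), (0, 13)]

/-- a tree of words -/
def q2 : List (ℕ × ℕ) :=
  [(0, 10), (0, 11), (0, 13), (1, 8), (1, 9), (4, 10), (4, 11)]

/-- the simple module `16a` -/
def G3 : List (List (ℕ × ℕ)) :=
  [[(0, 1), (0, 7), (2, 7), (3, 8), (4, 9), (5, 3), (5, 8), (5, 10), (6, 4), (6, 9), (6, 11), (10, 8), (11, 9), (14,
  12), (15, 12), (15, 13)], [(0, 1), (0, 2), (0, 7), (1, 7), (2, 7), (3, 9), (4, 8), (4, 9), (5, 3), (5, 4), (5, 8),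
  (5, 11), (6, 3), (6, 9), (6, 10), (6, 11), (10, 8), (10, 9), (11, 8), (13, 12), (15, 12), (15, 14)], [(1, 5), (2,
  6), (7, 10), (7, 15), (8, 13), (9, 13), (9, 14), (11, 15)], [(1, 5), (1, 6), (2, 5), (7, 10), (7, 11), (7, 15), (8,
  13), (8, 14), (9, 14), (10, 15), (11, 15)], [(0, 5), (0, 15), (1, 3), (1, 10), (1, 13), (2, 4), (2, 10), (2, 11),
  (2, 13), (2, 14), (3, 13), (4, 13), (4, 14), (6, 15), (7, 8), (7, 12), (9, 12), (10, 13), (11, 14)], [(0, 5), (0,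
  6), (0, 15), (1, 3), (1, 4), (1, 10), (1, 11), (1, 13), (2, 3), (2, 11), (2, 13), (2, 14), (3, 13), (3, 14), (4,
  14), (5, 15), (6, 15), (7, 8), (7, 9), (7, 12), (8, 12), (9, 12), (10, 14), (11, 13), (11, 14)], [(0, 3), (0, 12),
  (1, 8), (2, 8), (2, 9), (4, 12), (5, 13), (6, 14)], [(0, 3), (0, 4), (0, 12), (1, 8), (1, 9), (2, 9), (3, 12), (4,
  12), (5, 14), (6, 13), (6, 14)], [(2, 0), (3, 5), (4, 6), (7, 0), (7, 1), (8, 3), (8, 5), (8, 10), (9, 4), (9, 6),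
  (9, 11), (10, 5), (11, 6), (12, 13), (12, 15), (14, 15)], [(1, 0), (3, 5), (3, 6), (4, 5), (7, 0), (7, 2), (8, 4),
  (8, 5), (8, 10), (8, 11), (9, 3), (9, 4), (9, 6), (9, 10), (10, 6), (11, 5), (11, 6), (12, 13), (12, 14), (12, 15),
  (13, 15), (14, 15)], [(5, 1), (6, 2), (11, 7), (13, 8), (14, 8), (14, 9), (15, 7), (15, 10)], [(5, 1), (5, 2), (6,
  1), (10, 7), (13, 9), (14, 8), (15, 7), (15, 11)], [(1, 2), (2, 1), (2, 2), (3, 4), (4, 3), (4, 4), (10, 10), (10,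
  11), (11, 10), (13, 13), (13, 14), (14, 13)], [(1, 2), (2, 1), (2, 2), (5, 5), (5, 6), (6, 5), (8, 8), (8, 9), (9,
  8), (10, 11), (11, 10), (11, 11), (13, 13), (13, 14), (14, 13)]]

/-- a tree of words -/
def p3 : List (ℕ × ℕ) :=
  [(0, 6), (0, 7), (0, 0), (0, 4), (0, 1), (0, 5), (1, 7), (1, 0), (1, 8), (1, 1), (1, 9), (2, 9), (3, 2), (3, 3),
  (3, 8)]

/-- a tree of words -/
def q3 : List (ℕ × ℕ) :=
  [(0, 8), (0, 9), (1, 10), (1, 11), (1, 0), (2, 10), (2, 11), (3, 2), (3, 8), (3, 9), (4, 8), (4, 9), (6, 8), (6,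
  9), (9, 0)]

/-- the simple module `16b` -/
def G4 : List (List (ℕ × ℕ)) :=
  [[(1, 3), (2, 4), (7, 8), (7, 12), (9, 12), (10, 13), (11, 14)], [(1, 4), (2, 3), (2, 4), (7, 9), (7, 12), (8, 12),
  (10, 13), (10, 14), (11, 13)], [(0, 1), (0, 7), (2, 7), (3, 5), (3, 8), (3, 10), (4, 6), (4, 9), (4, 11), (5, 10),
  (6, 11), (8, 10), (9, 11), (12, 13), (12, 15), (14, 15)], [(0, 1), (0, 2), (0, 7), (1, 7), (2, 7), (3, 5), (3, 6),
  (3, 9), (3, 10), (4, 5), (4, 8), (4, 9), (4, 11), (5, 11), (6, 10), (6, 11), (8, 10), (8, 11), (9, 10), (12, 13),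
  (12, 14), (12, 15), (13, 15), (14, 15)], [(0, 5), (0, 15), (1, 10), (2, 10), (2, 11), (3, 13), (4, 13), (4, 14),
  (6, 15)], [(0, 6), (0, 15), (1, 11), (2, 10), (3, 14), (4, 13), (5, 15)], [(0, 3), (0, 12), (1, 5), (1, 8), (1,
  13), (2, 6), (2, 8), (2, 9), (2, 14), (4, 12), (5, 13), (6, 14), (7, 10), (7, 15), (8, 13), (9, 13), (9, 14), (11,
  15)], [(0, 3), (0, 4), (0, 12), (1, 5), (1, 6), (1, 8), (1, 9), (1, 13), (2, 5), (2, 9), (2, 14), (3, 12), (4, 12),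
  (5, 14), (6, 13), (6, 14), (7, 10), (7, 11), (7, 15), (8, 13), (8, 14), (9, 14), (10, 15), (11, 15)], [(3, 1), (4,
  2), (9, 7), (12, 7), (12, 8), (13, 10), (14, 11)], [(3, 2), (4, 1), (4, 2), (8, 7), (9, 7), (12, 7), (12, 8), (12,
  9), (13, 10), (13, 11), (14, 10)], [(2, 0), (5, 3), (6, 4), (7, 0), (7, 1), (8, 3), (9, 4), (10, 3), (10, 5), (10,
  8), (11, 4), (11, 6), (11, 9), (14, 12), (15, 12), (15, 13)], [(1, 0), (5, 3), (5, 4), (6, 3), (7, 0), (7, 2), (8,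
  4), (9, 3), (9, 4), (10, 3), (10, 6), (10, 8), (10, 9), (11, 4), (11, 5), (11, 6), (11, 8), (13, 12), (15, 12),
  (15, 14)], [(1, 1), (1, 2), (2, 1), (3, 4), (4, 3), (4, 4), (8, 8), (8, 9), (9, 8), (10, 11), (11, 10), (11, 11),
  (13, 13), (13, 14), (14, 13)], [(1, 2), (2, 1), (2, 2), (5, 6), (6, 5), (6, 6), (8, 8), (8, 9), (9, 8), (13, 14),
  (14, 13), (14, 14)]]

/-- a tree of words -/
def p4 : List (ℕ × ℕ) :=
  [(0, 5), (0, 4), (0, 2), (0, 6), (0, 3), (0, 7), (1, 4), (1, 2), (1, 10), (1, 6), (1, 3), (1, 7), (3, 0), (3, 1),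
  (3, 12)]

/-- a tree of words -/
def q4 : List (ℕ × ℕ) :=
  [(0, 10), (0, 11), (1, 8), (1, 9), (1, 12), (2, 8), (2, 9), (3, 0), (3, 10), (3, 11), (4, 10), (4, 11), (6, 10),
  (7, 11), (9, 12)]

/-- the simple module `32` -/
def G5 : List (List (ℕ × ℕ)) :=
  [[(0, 8), (1, 9), (2, 4), (2, 10), (2, 12), (3, 5), (3, 11), (3, 13), (4, 12), (5, 13), (6, 14), (7, 15), (10, 12),
  (11, 13), (18, 20), (19, 21), (24, 16), (25, 17), (26, 18), (26, 20), (26, 28), (27, 19), (27, 21), (27, 29), (28,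
  20), (29, 21), (30, 22), (31, 23)], [(0, 9), (1, 8), (1, 9), (2, 4), (2, 5), (2, 11), (2, 12), (3, 4), (3, 10), (3,
  11), (3, 13), (4, 13), (5, 12), (5, 13), (6, 15), (7, 14), (7, 15), (10, 12), (10, 13), (11, 12), (18, 20), (18,
  21), (19, 20), (24, 17), (25, 16), (25, 17), (26, 19), (26, 20), (26, 28), (26, 29), (27, 18), (27, 19), (27, 21),
  (27, 28), (28, 21), (29, 20), (29, 21), (30, 23), (31, 22), (31, 23)], [(0, 2), (1, 3), (4, 6), (5, 7), (8, 10),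
  (8, 24), (8, 26), (9, 11), (9, 25), (9, 27), (10, 26), (11, 27), (12, 14), (12, 28), (12, 30), (13, 15), (13, 29),
  (13, 31), (14, 30), (15, 31), (16, 18), (17, 19), (20, 22), (21, 23), (24, 26), (25, 27), (28, 30), (29, 31)], [(0,
  3), (1, 2), (1, 3), (4, 7), (5, 6), (5, 7), (8, 11), (8, 25), (8, 26), (8, 27), (9, 10), (9, 11), (9, 24), (9, 25),
  (9, 26), (10, 27), (11, 26), (11, 27), (12, 15), (12, 29), (12, 30), (12, 31), (13, 14), (13, 15), (13, 28), (13,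
  29), (13, 30), (14, 31), (15, 30), (15, 31), (16, 19), (17, 18), (17, 19), (20, 23), (21, 22), (21, 23), (24, 27),
  (25, 26), (25, 27), (28, 31), (29, 30), (29, 31)], [(0, 6), (0, 24), (0, 30), (1, 7), (1, 25), (1, 31), (2, 26),
  (3, 27), (4, 28), (5, 29), (6, 30), (7, 31), (8, 14), (8, 16), (8, 22), (9, 15), (9, 17), (9, 23), (10, 18), (11,
  19), (12, 20), (13, 21), (14, 22), (15, 23), (16, 22), (17, 23), (24, 30), (25, 31)], [(0, 6), (0, 7), (0, 25), (0,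
  30), (1, 6), (1, 24), (1, 25), (1, 31), (2, 27), (3, 26), (3, 27), (4, 29), (5, 28), (5, 29), (6, 31), (7, 30), (7,
  31), (8, 14), (8, 15), (8, 17), (8, 22), (9, 14), (9, 16), (9, 17), (9, 23), (10, 19), (11, 18), (11, 19), (12,
  21), (13, 20), (13, 21), (14, 23), (15, 22), (15, 23), (16, 22), (16, 23), (17, 22), (24, 30), (24, 31), (25, 30)],
  [(0, 4), (0, 16), (0, 20), (1, 5), (1, 17), (1, 21), (2, 6), (2, 18), (2, 22), (3, 7), (3, 19), (3, 23), (4, 20),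
  (5, 21), (6, 22), (7, 23), (8, 12), (9, 13), (10, 14), (11, 15), (16, 20), (17, 21), (18, 22), (19, 23), (24, 28),
  (25, 29), (26, 30), (27, 31)], [(0, 5), (0, 17), (0, 20), (0, 21), (1, 4), (1, 5), (1, 16), (1, 17), (1, 20), (2,
  7), (2, 19), (2, 22), (2, 23), (3, 6), (3, 7), (3, 18), (3, 19), (3, 22), (4, 21), (5, 20), (5, 21), (6, 23), (7,
  22), (7, 23), (8, 13), (9, 12), (9, 13), (10, 15), (11, 14), (11, 15), (16, 21), (17, 20), (17, 21), (18, 23), (19,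
  22), (19, 23), (24, 29), (25, 28), (25, 29), (26, 31), (27, 30), (27, 31)], [(4, 2), (5, 3), (8, 0), (9, 1), (10,
  2), (11, 3), (12, 2), (12, 4), (12, 10), (13, 3), (13, 5), (13, 11), (14, 6), (15, 7), (16, 24), (17, 25), (18,
  26), (19, 27), (20, 18), (20, 26), (20, 28), (21, 19), (21, 27), (21, 29), (22, 30), (23, 31), (28, 26), (29, 27)],
  [(4, 2), (4, 3), (5, 2), (8, 1), (9, 0), (9, 1), (10, 3), (11, 2), (11, 3), (12, 2), (12, 5), (12, 10), (12, 11),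
  (13, 3), (13, 4), (13, 5), (13, 10), (14, 7), (15, 6), (15, 7), (16, 25), (17, 24), (17, 25), (18, 27), (19, 26),
  (19, 27), (20, 18), (20, 19), (20, 26), (20, 29), (21, 18), (21, 27), (21, 28), (21, 29), (22, 31), (23, 30), (23,
  31), (28, 26), (28, 27), (29, 26)], [(2, 0), (3, 1), (6, 4), (7, 5), (10, 8), (11, 9), (14, 12), (15, 13), (18,
  16), (19, 17), (22, 20), (23, 21), (24, 8), (25, 9), (26, 8), (26, 10), (26, 24), (27, 9), (27, 11), (27, 25), (28,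
  12), (29, 13), (30, 12), (30, 14), (30, 28), (31, 13), (31, 15), (31, 29)], [(2, 1), (3, 0), (3, 1), (6, 5), (7,
  4), (7, 5), (10, 9), (11, 8), (11, 9), (14, 13), (15, 12), (15, 13), (18, 17), (19, 16), (19, 17), (22, 21), (23,
  20), (23, 21), (24, 9), (25, 8), (25, 9), (26, 8), (26, 9), (26, 11), (26, 25), (27, 8), (27, 10), (27, 11), (27,
  24), (27, 25), (28, 13), (29, 12), (29, 13), (30, 12), (30, 13), (30, 15), (30, 29), (31, 12), (31, 14), (31, 15),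
  (31, 28), (31, 29)], [(0, 0), (0, 1), (1, 0), (4, 5), (5, 4), (5, 5), (6, 6), (6, 7), (7, 6), (8, 9), (9, 8), (9,
  9), (10, 10), (10, 11), (11, 10), (14, 15), (15, 14), (15, 15), (16, 17), (17, 16), (17, 17), (18, 18), (18, 19),
  (19, 18), (22, 23), (23, 22), (23, 23), (24, 24), (24, 25), (25, 24), (28, 29), (29, 28), (29, 29), (30, 30), (30,
  31), (31, 30)], [(0, 0), (0, 1), (1, 0), (2, 3), (3, 2), (3, 3), (4, 4), (4, 5), (5, 4), (6, 7), (7, 6), (7, 7),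
  (8, 9), (9, 8), (9, 9), (12, 13), (13, 12), (13, 13), (16, 16), (16, 17), (17, 16), (18, 19), (19, 18), (19, 19),
  (20, 20), (20, 21), (21, 20), (22, 23), (23, 22), (23, 23), (26, 26), (26, 27), (27, 26), (30, 30), (30, 31), (31,
  30)]]

/-- a tree of words -/
def p5 : List (ℕ × ℕ) :=
  [(0, 0), (0, 2), (0, 4), (0, 6), (0, 12), (0, 1), (0, 5), (0, 3), (0, 7), (1, 2), (1, 4), (1, 6), (1, 5), (1, 3),
  (1, 7), (2, 0), (2, 4), (2, 6), (2, 1), (2, 5), (2, 7), (3, 6), (3, 10), (3, 12), (3, 13), (3, 1), (3, 5), (3, 7),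
  (3, 11), (4, 5), (5, 5)]

/-- a tree of words -/
def q5 : List (ℕ × ℕ) :=
  [(0, 8), (0, 10), (0, 12), (0, 9), (0, 11), (1, 10), (1, 11), (2, 8), (2, 9), (4, 10), (4, 11), (5, 8), (5, 9), (6,
  8), (6, 9), (7, 8), (7, 9), (8, 0), (8, 10), (8, 11), (9, 10), (9, 13), (9, 11), (10, 8), (10, 9), (12, 10), (12,
  11), (14, 0), (14, 10), (14, 11), (15, 13)]

/-- the simple module `32'` -/
def G6 : List (List (ℕ × ℕ)) :=
  [[(0, 8), (1, 9), (2, 4), (2, 10), (2, 12), (3, 5), (3, 11), (3, 13), (4, 12), (5, 13), (6, 14), (7, 15), (10, 12),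
  (11, 13), (18, 20), (19, 21), (24, 16), (25, 17), (26, 18), (26, 20), (26, 28), (27, 19), (27, 21), (27, 29), (28,
  20), (29, 21), (30, 22), (31, 23)], [(0, 8), (0, 9), (1, 8), (2, 4), (2, 5), (2, 10), (2, 11), (2, 13), (3, 4), (3,
  10), (3, 12), (3, 13), (4, 12), (4, 13), (5, 12), (6, 14), (6, 15), (7, 14), (10, 12), (10, 13), (11, 12), (18,
  20), (18, 21), (19, 20), (24, 16), (24, 17), (25, 16), (26, 18), (26, 19), (26, 21), (26, 28), (26, 29), (27, 18),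
  (27, 20), (27, 21), (27, 28), (28, 20), (28, 21), (29, 20), (30, 22), (30, 23), (31, 22)], [(0, 2), (1, 3), (4, 6),
  (5, 7), (8, 10), (8, 24), (8, 26), (9, 11), (9, 25), (9, 27), (10, 26), (11, 27), (12, 14), (12, 28), (12, 30),
  (13, 15), (13, 29), (13, 31), (14, 30), (15, 31), (16, 18), (17, 19), (20, 22), (21, 23), (24, 26), (25, 27), (28,
  30), (29, 31)], [(0, 3), (1, 2), (1, 3), (4, 7), (5, 6), (5, 7), (8, 11), (8, 24), (8, 25), (8, 26), (9, 10), (9,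
  11), (9, 24), (9, 27), (10, 26), (10, 27), (11, 26), (12, 15), (12, 28), (12, 29), (12, 30), (13, 14), (13, 15),
  (13, 28), (13, 31), (14, 30), (14, 31), (15, 30), (16, 19), (17, 18), (17, 19), (20, 23), (21, 22), (21, 23), (24,
  27), (25, 26), (25, 27), (28, 31), (29, 30), (29, 31)], [(0, 6), (0, 24), (0, 30), (1, 7), (1, 25), (1, 31), (2,
  26), (3, 27), (4, 28), (5, 29), (6, 30), (7, 31), (8, 14), (8, 16), (8, 22), (9, 15), (9, 17), (9, 23), (10, 18),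
  (11, 19), (12, 20), (13, 21), (14, 22), (15, 23), (16, 22), (17, 23), (24, 30), (25, 31)], [(0, 6), (0, 7), (0,
  24), (0, 25), (0, 31), (1, 6), (1, 24), (1, 30), (1, 31), (2, 26), (2, 27), (3, 26), (4, 28), (4, 29), (5, 28), (6,
  30), (6, 31), (7, 30), (8, 14), (8, 15), (8, 16), (8, 17), (8, 23), (9, 14), (9, 16), (9, 22), (9, 23), (10, 18),
  (10, 19), (11, 18), (12, 20), (12, 21), (13, 20), (14, 22), (14, 23), (15, 22), (16, 22), (16, 23), (17, 22), (24,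
  30), (24, 31), (25, 30)], [(0, 4), (0, 16), (0, 20), (1, 5), (1, 17), (1, 21), (2, 6), (2, 18), (2, 22), (3, 7),
  (3, 19), (3, 23), (4, 20), (5, 21), (6, 22), (7, 23), (8, 12), (9, 13), (10, 14), (11, 15), (16, 20), (17, 21),
  (18, 22), (19, 23), (24, 28), (25, 29), (26, 30), (27, 31)], [(0, 5), (0, 16), (0, 17), (0, 20), (1, 4), (1, 5),
  (1, 16), (1, 21), (2, 7), (2, 18), (2, 19), (2, 22), (3, 6), (3, 7), (3, 18), (3, 23), (4, 20), (4, 21), (5, 20),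
  (6, 22), (6, 23), (7, 22), (8, 13), (9, 12), (9, 13), (10, 15), (11, 14), (11, 15), (16, 21), (17, 20), (17, 21),
  (18, 23), (19, 22), (19, 23), (24, 29), (25, 28), (25, 29), (26, 31), (27, 30), (27, 31)], [(4, 2), (5, 3), (8, 0),
  (9, 1), (10, 2), (11, 3), (12, 2), (12, 4), (12, 10), (13, 3), (13, 5), (13, 11), (14, 6), (15, 7), (16, 24), (17,
  25), (18, 26), (19, 27), (20, 18), (20, 26), (20, 28), (21, 19), (21, 27), (21, 29), (22, 30), (23, 31), (28, 26),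
  (29, 27)], [(4, 2), (4, 3), (5, 2), (8, 0), (8, 1), (9, 0), (10, 2), (10, 3), (11, 2), (12, 3), (12, 4), (12, 5),
  (12, 10), (12, 11), (13, 2), (13, 3), (13, 4), (13, 10), (14, 6), (14, 7), (15, 6), (16, 24), (16, 25), (17, 24),
  (18, 26), (18, 27), (19, 26), (20, 18), (20, 19), (20, 27), (20, 28), (20, 29), (21, 18), (21, 26), (21, 27), (21,
  28), (22, 30), (22, 31), (23, 30), (28, 26), (28, 27), (29, 26)], [(2, 0), (3, 1), (6, 4), (7, 5), (10, 8), (11,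
  9), (14, 12), (15, 13), (18, 16), (19, 17), (22, 20), (23, 21), (24, 8), (25, 9), (26, 8), (26, 10), (26, 24), (27,
  9), (27, 11), (27, 25), (28, 12), (29, 13), (30, 12), (30, 14), (30, 28), (31, 13), (31, 15), (31, 29)], [(2, 1),
  (3, 0), (3, 1), (6, 5), (7, 4), (7, 5), (10, 9), (11, 8), (11, 9), (14, 13), (15, 12), (15, 13), (18, 17), (19,
  16), (19, 17), (22, 21), (23, 20), (23, 21), (24, 8), (24, 9), (25, 8), (26, 8), (26, 10), (26, 11), (26, 25), (27,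
  9), (27, 10), (27, 24), (27, 25), (28, 12), (28, 13), (29, 12), (30, 12), (30, 14), (30, 15), (30, 29), (31, 13),
  (31, 14), (31, 28), (31, 29)], [(0, 1), (1, 0), (1, 1), (2, 2), (2, 3), (3, 2), (6, 7), (7, 6), (7, 7), (8, 8), (8,
  9), (9, 8), (12, 13), (13, 12), (13, 13), (14, 14), (14, 15), (15, 14), (16, 16), (16, 17), (17, 16), (20, 21),
  (21, 20), (21, 21), (22, 22), (22, 23), (23, 22), (24, 25), (25, 24), (25, 25), (26, 26), (26, 27), (27, 26), (30,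
  31), (31, 30), (31, 31)], [(0, 0), (0, 1), (1, 0), (2, 3), (3, 2), (3, 3), (4, 4), (4, 5), (5, 4), (6, 7), (7, 6),
  (7, 7), (10, 10), (10, 11), (11, 10), (14, 14), (14, 15), (15, 14), (16, 16), (16, 17), (17, 16), (18, 19), (19,
  18), (19, 19), (20, 20), (20, 21), (21, 20), (22, 23), (23, 22), (23, 23), (24, 25), (25, 24), (25, 25), (28, 29),
  (29, 28), (29, 29)]]

/-- a tree of words -/
def p6 : List (ℕ × ℕ) :=
  [(0, 0), (0, 2), (0, 4), (0, 6), (0, 12), (0, 3), (0, 7), (0, 1), (0, 5), (1, 2), (1, 4), (1, 6), (1, 3), (1, 7),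
  (1, 5), (2, 0), (2, 4), (2, 6), (2, 7), (2, 1), (2, 5), (3, 6), (3, 10), (3, 12), (3, 13), (3, 7), (3, 11), (4,
  12), (4, 13), (4, 3), (6, 7)]

/-- a tree of words -/
def q6 : List (ℕ × ℕ) :=
  [(0, 8), (0, 10), (0, 12), (0, 11), (0, 9), (1, 10), (1, 11), (2, 8), (2, 9), (4, 8), (4, 9), (5, 10), (5, 11), (6,
  2), (6, 8), (6, 12), (6, 9), (7, 8), (7, 9), (8, 10), (8, 11), (9, 10), (9, 11), (10, 10), (10, 11), (12, 8), (12,
  9), (15, 10), (15, 11), (17, 10), (17, 11)]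

end Cfsg.Agent.E82.M44
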